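import Cfsg.Agent.Lib.S8L.Cs
import Cfsg.Agent.Lib.S8L.P6
import Cfsg.Agent.Lib.Linear.SymPres
import Mathlib.GroupTheory.SpecificGroups.Alternating.Simple

/-!
# The case of a centraliser `2 × S₆`
-/

set_option maxRecDepth 100000
set_option synthInstance.maxSize 100000
set_option synthInstance.maxHeartbeats 200000
set_option Elab.async false

namespace Cfsg.Lib.S8L

open Subgroup Cfsg.Lib.X32 Cfsg.Lib.Transfer Cfsg.Lib.A8L Equiv Cfsg.Lib.Linear P6

universe u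

local notation "⟬" n "⟭" => KS.el n

variable {G : Type u} [Group G]

theorem exists_sig {H : Type u} [Group H] {i a z b w : H} (ψ : H →* Perm (Fin 6)) (sψ : Function.Surjective ψ)
    (hψ : ∀ g, ψ g = 1 ↔ g = 1 ∨ g = i) (ic : ∀ g, g * i = i * g) (ii : i * i = 1) (na : ¬ IsConj a (i * a)) (ab : IsConj a b)
    (z3 : z * z * z = 1) (w3 : w * w * w = 1) (z1 : z ≠ 1) (w1 : w ≠ 1) (aa : a * a = 1) (bb : b * b = 1) (az : a * z = z⁻¹ * a)
    (wz : w * z = z * w) (wa : w * a = a * w) (bw : b * w = w⁻¹ * b) (bz : b * z = z * b) (ba : b * a = a * b) :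
    ∃ σ : Perm (Fin 6) →* H, Function.Injective σ ∧ (∀ p, σ p ≠ i) ∧ (∀ g, ∃ p, g = σ p ∨ g = i * σ p) ∧ σ (swap 0 1) = a ∧
      σ (swap 1 2 * swap 0 1) = z ∧ σ (swap 3 4) = b ∧ σ (swap 4 5 * swap 3 4) = w := by
  have i1 : i ≠ 1 := fun e => na (by rw [e, one_mul])
  have n3 : ∀ x, x * x * x = 1 → x ≠ 1 → ψ x ≠ 1 := fun x h1 h2 e => ((hψ x).1 e).elim h2 fun e => by
    rw [e, ii, one_mul] at h1; exact i1 h1
  have m : ∀ {x y : H}, x = y → ψ x = ψ y := fun e => e ▸ rfl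
  obtain ⟨k, hk⟩ := (by decide +kernel : ∀ Z : Perm (Fin 6), Z * Z * Z = 1 → Z ≠ 1 → ∃ k, k * Z * k⁻¹ = el 716 ∨ k * Z * k⁻¹ = el 572) (ψ z)
    (by simpa using m z3) (n3 z z3 z1)
  obtain ⟨k, rfl⟩ := sψ k
  have c : ∀ x : H, ψ k * ψ x * (ψ k)⁻¹ = ψ (k * x * k⁻¹) := fun x => by simp
  obtain ⟨X, x1, x2, x3, x4, x5⟩ := (by decide +kernel : ∀ Z ∈ [el 716, el 572], ∀ A, A * Z = Z⁻¹ * A → A * A = 1 → ∀ W, W * Z = Z * W →
    W * A = A * W → W * W * W = 1 → W ≠ 1 → ∀ B, B * W = W⁻¹ * B → B * Z = Z * B → B * A = A * B → B * B = 1 → ∃ X, X * X = 1 ∧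
      A * X * (A * X) = 1 ∧ W * B * X * (W * B * X) = 1 ∧ Z * A * X * (Z * A * X) * (Z * A * X) = 1 ∧
      B * X * (B * X) * (B * X) = 1) _ (by simpa using hk) (ψ k * ψ a * (ψ k)⁻¹) (by rw [conj_inv, conj_mul, conj_mul, ← map_mul, az, map_mul, map_inv])
      (by simpa [conj_mul] using m aa) (ψ k * ψ w * (ψ k)⁻¹) (by simpa [conj_mul] using m wz) (by simpa [conj_mul] using m wa)
      (by simpa [conj_mul] using m w3) (by simpa using n3 w w3 w1) (ψ k * ψ b * (ψ k)⁻¹) (by rw [conj_inv, conj_mul, conj_mul, ← map_mul, bw, map_mul, map_inv])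
      (by simpa [conj_mul] using m bz) (by simpa [conj_mul] using m ba) (by simpa [conj_mul] using m bb)
  obtain ⟨y, hy⟩ := sψ ((ψ k)⁻¹ * X * ψ k)
  obtain rfl : X = ψ k * ψ y * (ψ k)⁻¹ := by rw [hy]; group
  simp only [conj_mul, conj_eq_one_iff] at x1 x2 x3 x4 x5
  have cz : ∀ {a z : H}, z * z * z = 1 → a * z = z⁻¹ * a → IsConj a (z * a) ∧ (a * a = 1 → z * a * (z * a) = 1 ∧
      (a * (z * a)) ^ 3 = 1) := fun {a z} z3 az => ⟨isConj_iff.2 ⟨z⁻¹, by
    rw [inv_inv, mul_assoc, az, ← mul_assoc, ← mul_inv_rev, inv_eq_of_mul_eq_one_right z3]⟩, fun aa => ⟨by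
      rw [mul_assoc, ← mul_assoc a, az, mul_assoc, aa]; group, by
      rw [← mul_assoc, az, mul_assoc, aa, mul_one, inv_pow, pow_three', z3, inv_one]⟩⟩
  have sx : IsConj (z * a) (z * a * y * (z * a) * (z * a * y)⁻¹) := isConj_iff.2 ⟨_, rfl⟩
  have xx : z * a * y * (z * a) * (z * a * y)⁻¹ * (z * a * y * (z * a) * (z * a * y)⁻¹) = 1 := by
    rw [conj_mul, ((cz z3 az).2 aa).1]; simp
  have ex : ψ (z * a * y * (z * a) * (z * a * y)⁻¹) = ψ y := by
    have := m ((cz z3 az).2 aa).1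
    simp only [map_mul, map_inv, map_one] at this ⊢
    generalize ψ z * ψ a = s at *
    rw [mul_inv_eq_iff_eq_mul, ← mul_left_inj (ψ y * (s * ψ y)), ← mul_right_inj s]
    calc _ = s * s * (ψ y * s * ψ y) * (s * ψ y) := by group
      _ = s * (ψ y * (s * (ψ y * ψ y) * s * ψ y)) := by
        rw [this, x1, mul_one, this, one_mul, one_mul, x1, mul_one, ← mul_right_inj s, this, ← x4]; group
      _ = _ := by group
  rw [← ex] at x2 x3 x4 x5
  have ax := (cz z3 az).1.trans sx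
  generalize z * a * y * (z * a) * (z * a * y)⁻¹ = x at *
  have nx : ¬ IsConj a (i * x) := fun c => na (by
    obtain ⟨g, rfl⟩ := isConj_iff.1 ax
    exact c.trans (isConj_iff.2 ⟨g⁻¹, by rw [← mul_assoc, ic]; group⟩))
  have r2 : ∀ s, s * s = 1 → ψ s * ψ x * (ψ s * ψ x) = 1 → (s * x) ^ 2 = 1 := fun s ss e =>
    ((hψ _).1 (by simpa [pow_two] using e)).resolve_right fun c => nx (ax.trans (isConj_iff.2 ⟨s, by
      rw [← c, inv_eq_of_mul_eq_one_right ss, pow_two, mul_assoc _ _ x, mul_assoc s x x, xx, mul_one]⟩))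
  have r3 : ∀ s, IsConj a s → s * s = 1 → ψ s * ψ x * (ψ s * ψ x) * (ψ s * ψ x) = 1 → (s * x) ^ 3 = 1 := fun s as ss e =>
    ((hψ _).1 (by simpa [pow_three'] using e)).resolve_right fun c => nx (as.trans (isConj_iff.2 ⟨s * x, by
      rw [← c, mul_inv_rev, inv_eq_of_mul_eq_one_right ss, inv_eq_of_mul_eq_one_right xx, pow_three', mul_assoc _ _ x,
        mul_assoc s x x, xx]; group⟩))
  have cm : ∀ {s t : H}, s * s = 1 → t * t = 1 → t * s = s * t → (s * t) ^ 2 = 1 := fun {s t} h1 h2 h3 => by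
    rw [pow_two, mul_assoc, ← mul_assoc t, h3, mul_assoc, h2, mul_one, h1]
  obtain ⟨σ, hσ⟩ := CoxA.exists_hom (s := extFin ![a, z * a, x, b, w * b]) (n := 5) ⟨fun j hj => by
      interval_cases j
      exacts [aa, ((cz z3 az).2 aa).1, xx, bb, ((cz w3 bw).2 bb).1], fun j hj => by
      have : j < 4 := by omega
      interval_cases j
      exacts [((cz z3 az).2 aa).2, r3 (z * a) (cz z3 az).1 ((cz z3 az).2 aa).1 (by simpa using x4),
        mul_pow_comm_eq_one (r3 _ ab bb x5), ((cz w3 bw).2 bb).2], fun j l h1 h2 => by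
      have : j < 3 := by omega
      have cb : ∀ {s}, b * s = s * b → w * s = s * w → w * b * s = s * (w * b) := fun h1 h2 => by
        rw [mul_assoc, h1, ← mul_assoc, h2, mul_assoc]
      have ca : ∀ {s}, s * a = a * s → s * z = z * s → s * (z * a) = z * a * s := fun h1 h2 => by
        rw [← mul_assoc, h2, mul_assoc, h1, mul_assoc]
      interval_cases j <;> interval_cases l
      exacts [r2 _ aa x2, cm aa bb ba, cm aa ((cz w3 bw).2 bb).1 (cb ba wa), cm ((cz z3 az).2 aa).1 bb (ca ba bz),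
        cm ((cz z3 az).2 aa).1 ((cz w3 bw).2 bb).1 (cb (ca ba bz) (ca wa wz)),
        mul_pow_comm_eq_one (r2 (w * b) ((cz w3 bw).2 bb).1 (by simpa using x3))]⟩
  have e1 : σ (swap 1 2 * swap 0 1) = z := by
    rw [map_mul]; exact (congrArg₂ _ (hσ 1) (hσ 0)).trans (show z * a * a = z by rw [mul_assoc, aa, mul_one])
  have hi : Function.Injective (ψ.comp σ) := (MonoidHom.ker_eq_bot_iff _).1 (by
    by_contra c
    exact n3 z z3 z1 ((congrArg ψ e1).symm.trans (Perm.alternatingGroup_le_of_normal (by simp) ((nontrivial_iff_ne_bot _).2 c)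
      (sign_swap_mul_swap (by decide) (by decide)))))
  refine ⟨σ, .of_comp hi, fun p e => i1 ?_, fun g => ?_, hσ 0, e1, hσ 3, ?_⟩
  · rw [← e, hi (a₁ := p) (a₂ := 1) (by rw [map_one]; exact (hψ _).2 (.inr e)), map_one]
  · obtain ⟨p, hp⟩ := Finite.injective_iff_surjective.1 hi (ψ g)
    exact ⟨p, ((hψ (g * (σ p)⁻¹)).1 (by rw [map_mul, map_inv, ← hp]; exact mul_inv_cancel _)).imp mul_inv_eq_one.1 eq_mul_of_mul_inv_eq⟩
  · rw [map_mul]; exact (congrArg₂ _ (hσ 4) (hσ 3)).trans (show w * b * b = w by rw [mul_assoc, bb, mul_one])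

variable [Finite G] {κ : KS →* G} {u : G}

theorem Cs.caseA (h : Cs κ u) {t : KS} (ht : t = ⟬372⟭ ∨ t = ⟬12⟭) (ha : Cj κ u ⟬540⟭ t)
    (ψ : centralizer {κ ⟬360⟭} →* Perm (Fin 6)) (sψ : Function.Surjective ψ) (hψ : ∀ g, ψ g = 1 ↔ g.1 = 1 ∨ g.1 = κ ⟬360⟭) :
    t = ⟬372⟭ ∧ ∃ s : G →* ℤˣ, s (κ ⟬360⟭) = -1 := by
  have hb := ha.mul h.ui
  have wi : Cj κ (κ ⟬47⟭) ⟬372⟭ ⟬360⟭ := cjk κ (by decide +kernel)
  have iw : Cj κ (κ ⟬47⟭) ⟬360⟭ ⟬372⟭ := cjk κ (by decide +kernel)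
  have fi : ¬ IsConj (κ ⟬360⟭) (κ ⟬12⟭) := fun c => (isConj_iff.1 c).elim fun _ => h.fi
  have ct : t * ⟬360⟭ = ⟬360⟭ * t ∧ t * t = 1 ∧ t * ⟬15⟭ = ⟬15⟭⁻¹ * t ∧ t * ⟬60⟭ = ⟬60⟭ * t ∧ t * ⟬540⟭ = ⟬540⟭ * t := by
    rcases ht with rfl | rfl <;> decide +kernel
  let e : ∀ k, k * ⟬360⟭ = ⟬360⟭ * k → centralizer {κ ⟬360⟭} := fun k c => ⟨κ k, mem_cen c⟩
  have ii : κ ⟬360⟭ * κ ⟬360⟭ = 1 := by rw [← map_mul, h.one]; decide +kernel
  obtain ⟨σ', s1, s2, s3, s4, s5, s6, s7⟩ := exists_sig (i := e ⟬360⟭ rfl) (a := e ⟬540⟭ (by decide +kernel))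
    (z := e ⟬60⟭ (by decide +kernel)) (b := e t ct.1) (w := e ⟬15⟭ (by decide +kernel)) ψ sψ
    (fun g => (hψ g).trans (or_congr OneMemClass.coe_eq_one ⟨fun c => Subtype.ext c, congrArg Subtype.val⟩))
    (fun g => Subtype.ext (mem_centralizer_singleton_iff.1 g.2)) (Subtype.ext ii) (fun c => by
      have c : IsConj (κ ⟬540⟭) (κ (⟬540⟭ * ⟬360⟭)) := by
        rw [show ⟬540⟭ * ⟬360⟭ = ⟬360⟭ * ⟬540⟭ by decide +kernel, map_mul]; exact (centralizer {κ ⟬360⟭}).subtype.map_isConj c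
      have c := (ha.isConj.symm.trans c).trans hb.isConj
      rcases ht with rfl | rfl
      exacts [fi (iw.isConj.trans c), fi (iw.isConj.trans c.symm)])
    (isConj_iff.2 ⟨⟨u, mem_centralizer_singleton_iff.2 h.ui.comm⟩, Subtype.ext ha⟩)
    (Subtype.ext (by simp only [e, coe_mul, ← map_mul, coe_one, h.one]; decide +kernel))
    (Subtype.ext (by simp only [e, coe_mul, ← map_mul, coe_one, h.one]; decide +kernel))
    (fun c => absurd (h.one.1 (congrArg Subtype.val c)) (by decide +kernel))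
    (fun c => absurd (h.one.1 (congrArg Subtype.val c)) (by decide +kernel))
    (Subtype.ext (by simp only [e, coe_mul, ← map_mul, coe_one, h.one]; decide +kernel))
    (Subtype.ext (by simp only [e, coe_mul, ← map_mul, coe_one, h.one, ct.2.1]))
    (Subtype.ext (by simp only [e, coe_mul, coe_inv, ← map_inv, ← map_mul, h.inj.eq_iff]; decide +kernel))
    (Subtype.ext (by simp only [e, coe_mul, ← map_mul, h.inj.eq_iff]; decide +kernel))
    (Subtype.ext (by simp only [e, coe_mul, ← map_mul, h.inj.eq_iff]; decide +kernel))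
    (Subtype.ext (by simp only [e, coe_mul, coe_inv, ← map_inv, ← map_mul, ct.2.2.1]))
    (Subtype.ext (by simp only [e, coe_mul, ← map_mul, ct.2.2.2.1])) (Subtype.ext (by simp only [e, coe_mul, ← map_mul, ct.2.2.2.2]))
  let σ := (centralizer {κ ⟬360⟭}).subtype.comp σ'
  have hi : Function.Injective σ := Subtype.val_injective.comp s1
  have ni : ∀ p, σ p ≠ κ ⟬360⟭ := fun p c => s2 p (Subtype.ext c)
  have ci : ∀ p, Cj κ (σ p) ⟬360⟭ ⟬360⟭ := fun p => .of_comm (mem_centralizer_singleton_iff.1 (σ' p).2)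
  have cv : ∀ g, Cj κ g ⟬360⟭ ⟬360⟭ → ∃ p, (g = σ p ∨ g = κ ⟬360⟭ * σ p) ∧ (∀ x, Cj σ g x (p * x * p⁻¹)) ∧ g * g = σ (p * p) :=
    fun g c => by
      obtain ⟨p, e | e⟩ := s3 ⟨g, mem_centralizer_singleton_iff.2 c.comm⟩
      · obtain rfl : g = σ p := congrArg Subtype.val e
        exact ⟨p, .inl rfl, .of p, (map_mul _ _ _).symm⟩
      · obtain rfl : g = κ ⟬360⟭ * σ p := congrArg Subtype.val e
        exact ⟨p, .inr rfl, fun x => (Cj.of p x).comp (.of_comm (ci _).comm.symm), by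
          rw [mul_assoc, ← mul_assoc (σ p), (ci p).comm, mul_assoc, ← mul_assoc, ii, one_mul, map_mul]⟩
  replace s4 : σ _ = κ ⟬540⟭ := congrArg Subtype.val s4
  replace s5 : σ _ = κ ⟬60⟭ := congrArg Subtype.val s5
  replace s6 : σ _ = κ t := congrArg Subtype.val s6
  replace s7 : σ _ = κ ⟬15⟭ := congrArg Subtype.val s7
  clear_value σ
  have tr : ∀ {g p q k l}, σ p = κ k → σ q = κ l → (Cj σ g p q ↔ Cj κ g k l) := fun a b => by rw [Cj, Cj, a, b]
  have cn : ∀ {p q}, (∃ k, k * p * k⁻¹ = q) → IsConj (σ p) (σ q) ∧ IsConj (κ ⟬360⟭ * σ p) (κ ⟬360⟭ * σ q) := by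
    rintro p _ ⟨k, rfl⟩
    exact ⟨(Cj.of k p).isConj, isConj_iff.2 ⟨σ k, by rw [← conj_mul, ci k, Cj.of k p]⟩⟩
  have np : ∀ x, Cj κ x ⟬60⟭ ⟬60⟭ → ¬ IsConj (σ (el 269)) x ∧ ¬ IsConj (κ ⟬360⟭ * σ (el 269)) x := fun x c => by
    obtain ⟨p, e, c1, c2⟩ := cv u h.ui
    obtain rfl := (by decide +kernel : ∀ p : Perm (Fin 6), p * p = 1 → p * (swap 1 2 * swap 0 1) * p⁻¹ = swap 4 5 * swap 3 4 →
      p * swap 0 1 * p⁻¹ = swap 3 4 → p = el 269) p (hi (by rw [← c2, h.uu, map_one])) ((c1 _).uniq hi ((tr s5 s7).2 h.uz))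
      ((c1 _).uniq hi ((tr s4 s6).2 ha))
    have := h.swi
    rw [h.ui.comm] at this
    rcases e with e | e
    · exact ⟨fun d => h.nu (e ▸ d) c, fun d => this.nu (e ▸ d) c⟩
    · exact ⟨fun d => this.nu (by rwa [e, ← mul_assoc, ii, one_mul]) c, fun d => h.nu (e ▸ d) c⟩
  have c1 : Cj κ (σ (el 328)) t t := (tr s6 s6).1 (cjk σ (by decide +kernel))
  have c2 : Cj κ (σ (el 328)) ⟬372⟭ ⟬372⟭ := by
    rcases ht with rfl | rfl
    exacts [c1, (c1.mul (ci _)).cast (by decide +kernel) (by decide +kernel)]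
  have wp : κ ⟬47⟭ * σ (el 328) * (κ ⟬47⟭)⁻¹ = σ (el 328) := by
    have q1 := (c2.conj ⟬47⟭).cast (h.eq wi) (h.eq wi)
    have q2 := ((ci (el 328)).conj ⟬47⟭).cast (h.eq iw) (h.eq iw)
    have q3 : (κ ⟬47⟭ * σ (el 328) * (κ ⟬47⟭)⁻¹ * κ ⟬60⟭) ^ 3 = 1 := by
      rw [← cjk κ (k := ⟬47⟭) (p := ⟬60⟭) (q := ⟬60⟭) (by decide +kernel), conj_mul, conj_pow, ← s5, ← map_mul, ← map_pow,
        conj_eq_one_iff, map_eq_one_iff σ hi]; decide +kernel
    obtain ⟨r, e | e, d1, d2⟩ := cv _ q1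
    · rw [e, (by decide +kernel : ∀ r : Perm (Fin 6), r * r = 1 → r ≠ 1 → (r * (swap 1 2 * swap 0 1)) ^ 3 = 1 →
        r * swap 0 1 * r⁻¹ = swap 0 1 → r * swap 3 4 * r⁻¹ = swap 3 4 → r = el 328) r
        (hi (by rw [← d2, conj_mul, ← map_mul, show el 328 * el 328 = 1 by decide +kernel]; simp))
        (fun c => by
          rw [c, map_one, conj_eq_one_iff, map_eq_one_iff σ hi] at e
          exact absurd e (by decide +kernel))
        (hi (by rw [map_pow, map_mul, ← e, s5, q3, map_one]))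
        ((d1 _).uniq hi ((tr s4 s4).2 ((((tr s4 s4).1 (cjk σ (by decide +kernel))).conj ⟬47⟭).cast (by decide +kernel)
          (by decide +kernel)))) ((d1 _).uniq hi ((tr s6 s6).2 (by
            rcases ht with rfl | rfl
            exacts [q2, (q2.mul q1).cast (by decide +kernel) (by decide +kernel)])))]
    · rw [e, ← s5, mul_assoc, ← map_mul, (show Commute _ _ from (ci _).comm.symm).mul_pow, ← map_pow σ, pow_three', ii, one_mul,
        mul_eq_one_iff_eq_inv, ← map_inv] at q3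
      exact absurd q3.symm (ni _)
  have wj : IsConj (κ ⟬360⟭ * σ (el 328)) (κ ⟬372⟭ * σ (el 328)) := isConj_iff.2 ⟨κ ⟬47⟭, by rw [← conj_mul, wp, iw]⟩
  have k1 := cn (p := el 269) (q := swap 3 4 * el 328) (by decide +kernel)
  rcases ht with rfl | rfl
  · refine ⟨rfl, trc (M := σ.range) ii (fun ⟨p, c⟩ => ni p c) (fun g c => ?_) fun j c d => ?_⟩
    · obtain ⟨p, rfl | rfl, -⟩ := cv g (.of_comm c)
      exacts [.inl ⟨p, rfl⟩, .inr ⟨p, by rw [← mul_assoc, ii, one_mul]⟩]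
    obtain ⟨p, rfl | rfl, -, e⟩ := cv j (.of_comm d)
    · exact .inr ⟨p, rfl⟩
    obtain ⟨g, hg⟩ := isConj_iff.1 c
    rcases (by decide +kernel : ∀ p : Perm (Fin 6), p * p = 1 → p = 1 ∨ (∃ k, k * p * k⁻¹ = swap 0 1) ∨ (∃ k, k * p * k⁻¹ = el 328) ∨
      ∃ k, k * p * k⁻¹ = el 269) p (hi (by rw [← e, ← hg, conj_mul, ii]; simp)) with rfl | a | a | a
    · exact .inl (by simp)
    · have := c.trans (cn a).2
      rw [s4, ← map_mul] at this
      exact (fi (this.trans (hb.cast (by decide +kernel) (by decide +kernel)).isConj)).elim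
    · have := (c.trans (cn a).2).trans wj
      rw [← s6, ← map_mul] at this
      exact ((np _ (cjk κ (by decide +kernel))).1 (k1.1.trans this.symm)).elim
    · exact ((np _ (cjk κ (by decide +kernel))).2 (c.trans (cn a).2).symm).elim
  · have k2 := (cn (p := el 328) (q := swap 0 1 * swap 3 4) (by decide +kernel)).2
    rw [map_mul, s6, ← mul_assoc, ← map_mul, show ⟬360⟭ * ⟬12⟭ = ⟬372⟭ by decide +kernel] at k1
    rw [map_mul, s6, s4, ← map_mul, ← map_mul] at k2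
    exact ((np _ (cjk κ (k := ⟬12⟭ * ⟬360⟭) (by decide +kernel))).2 ((((k1.2.trans wj.symm).trans k2).trans
      (cjk κ (k := ⟬47⟭) (q := ⟬540⟭ * ⟬360⟭) (by decide +kernel)).isConj).trans hb.isConj)).elim

end Cfsg.Lib.S8L
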