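import Cfsg.Agent.Lib.S8L.Cs
import Cfsg.Agent.S3333

/-!
# The centraliser of the involution centralising a Sylow `3`-subgroup
-/

set_option maxRecDepth 100000
set_option synthInstance.maxSize 100000
set_option synthInstance.maxHeartbeats 200000
set_option Elab.async false

namespace Cfsg.Lib.S8L

open Subgroup Cfsg.Lib.X32 Cfsg.Lib.Transfer Cfsg.Lib.A8L Equiv

universe u

local notation "⟬" n "⟭" => KS.el n

local instance factDich : Fact (Nat.Prime 3) := ⟨Nat.prime_three⟩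

variable {G : Type u} [Group G] [Finite G] {κ : KS →* G} {u : G}

namespace Cs

variable (h : Cs κ u)
include h

omit h in
theorem kN {k : KS} (e : k * ⟬360⟭ = ⟬360⟭ * k) : κ k ∈ normalizer (KS.D.map κ : Set G) := nrm fun p hp =>
  ⟨_, (by decide +kernel : ∀ k, k * ⟬360⟭ = ⟬360⟭ * k → ∀ p ∈ KS.D, k * p * k⁻¹ ∈ KS.D) k e p hp, .of k p⟩

theorem uN' : u ∈ normalizer (KS.D.map κ : Set G) := nrm fun _ hp => (h.uD hp).imp fun _ c => ⟨c.1, c.2.1⟩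

theorem cD {g : G} {d : KS} (hd : d ∈ KS.D) (d1 : d ≠ 1) (e : Cj κ g d d) (c : Cj κ g ⟬360⟭ ⟬360⟭) :
    g ∈ normalizer (KS.D.map κ : Set G) := by
  have z : ∀ g, Cj κ g ⟬60⟭ ⟬60⟭ → Cj κ g ⟬360⟭ ⟬360⟭ → g ∈ normalizer (KS.D.map κ : Set G) := fun g e c => by
    obtain ⟨k, rfl⟩ := h.cen e
    exact kN (mul_inv_eq_iff_eq_mul.1 (h.eq c))
  obtain ⟨k, -, k1, a⟩ := (by decide +kernel : ∀ d ∈ KS.D, d ≠ 1 → ∃ k ∈ [1, ⟬12⟭, ⟬180⟭, ⟬192⟭], k * ⟬360⟭ = ⟬360⟭ * k ∧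
    (k * d * k⁻¹ = ⟬75⟭ ∨ k * d * k⁻¹ = ⟬60⟭ ∨ k * d * k⁻¹ = ⟬15⟭)) d hd d1
  have c' := (c.conj k).cast (mul_inv_eq_iff_eq_mul.2 k1) (mul_inv_eq_iff_eq_mul.2 k1)
  refine (mul_mem_cancel_left (kN k1)).1 ((mul_mem_cancel_right (inv_mem (kN k1))).1 ?_)
  rcases a with a | a | a <;> have e' := (e.conj k).cast a a
  · exact nrm (h.hy _ e').2
  · exact z _ e' c'
  · exact (mul_mem_cancel_right h.uN').1 ((mul_mem_cancel_left h.uN').1
      (z _ ((h.uz.comp e').comp (h.sy h.uz)) ((h.ui.comp c').comp h.ui)))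

theorem dich (hS : SylowIn 3 (KS.D.map κ) ⊤) (π : normalizer (KS.D.map κ : Set G) →* DihedralGroup 4) (sπ : Function.Surjective π)
    (hπ : ∀ g, π g = 1 ↔ g.1 ∈ centralizer (KS.D.map κ : Set G)) :
    (∀ g, Cj κ g ⟬360⟭ ⟬360⟭ → ∃ k, k * ⟬360⟭ = ⟬360⟭ * k ∧ (g = κ k ∨ g = u * κ k)) ∨
      ∃ ψ : centralizer {κ ⟬360⟭} →* Perm (Fin 6), Function.Surjective ψ ∧ ∀ g, ψ g = 1 ↔ g.1 = 1 ∨ g.1 = κ ⟬360⟭ := by
  let H := centralizer {κ ⟬360⟭}
  have mH : ∀ {g}, g ∈ H ↔ Cj κ g ⟬360⟭ ⟬360⟭ := mem_centralizer_singleton_iff.trans ⟨.of_comm, Cj.comm⟩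
  have ii : κ ⟬360⟭ * κ ⟬360⟭ = 1 := by rw [← map_mul, h.one]; decide +kernel
  let i : H := ⟨κ ⟬360⟭, mem_cen rfl⟩
  let Z := zpowers i
  have hZ : ∀ g : H, g ∈ Z ↔ g.1 = 1 ∨ g.1 = κ ⟬360⟭ := fun g => ⟨by
    rintro ⟨k, rfl⟩
    have e := zpow_eq_zpow_emod (x := i) k (n := 2) (by rw [zpow_two]; exact Subtype.ext ii)
    rcases Int.emod_two_eq_zero_or_one k with c | c <;> simp [e, c, i], fun e => by
      rcases e with e | e
      exacts [(Subtype.ext e : g = 1) ▸ one_mem _, (Subtype.ext e : g = i) ▸ mem_zpowers _]⟩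
  have : Z.Normal := ⟨fun n hn g => by
    rcases (hZ n).1 hn with e | e
    exacts [(hZ _).2 (.inl (by simp [e])), (hZ _).2 (.inr (by simpa [e, Cj] using mH.1 g.2))]⟩
  let q := QuotientGroup.mk' Z
  have hq : ∀ g, q g = 1 ↔ g.1 = 1 ∨ g.1 = κ ⟬360⟭ := fun g => (QuotientGroup.eq_one_iff g).trans (hZ g)
  have D3 : ∀ x ∈ KS.D.map κ, x ^ 3 = 1 := by
    rintro _ ⟨a, ha, rfl⟩
    rw [← map_pow, (by decide +kernel : ∀ a ∈ KS.D, a ^ 3 = 1) a ha, map_one]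
  have lf : ∀ x y : H, x.1 ^ 3 = 1 → y.1 ^ 3 = 1 → q x = q y → x.1 = y := fun x y hx hy e => by
    rcases (hq (x * y⁻¹)).1 (by rw [map_mul, map_inv, e, mul_inv_cancel]) with e | e
    · exact mul_inv_eq_one.1 e
    rw [eq_mul_of_mul_inv_eq e, (show Commute _ y.1 from (mH.1 y.2).comm.symm).mul_pow, hy, mul_one, ← map_pow, h.one] at hx
    exact absurd hx (by decide +kernel)
  have NH : normalizer (KS.D.map κ : Set G) ≤ H := fun g hg => by
    obtain ⟨k, k1, rfl | rfl⟩ := h.nD fun d hd => ncj hg hd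
    exacts [mem_cen k1, mul_mem (mH.2 h.ui) (mem_cen k1)]
  have DH := le_normalizer.trans NH
  let S := ((KS.D.map κ).subgroupOf H).map q
  have nS : ∀ g : H, q g ∈ normalizer (S : Set (H ⧸ Z)) ↔ g.1 ∈ normalizer (KS.D.map κ : Set G) := fun g =>
    ⟨fun c => mem_normalizer_of_cj_le (cj_le_iff.2 fun d hd => by
      obtain ⟨e, e1, e2⟩ := conj_mem_of_mem_normalizer c (mem_map_of_mem q (show (⟨d, DH hd⟩ : H) ∈ _ from hd))
      rw [← map_inv, ← map_mul, ← map_mul] at e2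
      exact (show e.1 = g.1 * d * g.1⁻¹ from lf _ _ (D3 _ e1) (by simp [conj_pow, D3 d hd]) e2) ▸ e1), fun c => mem_normalizer_of_cj_le (cj_le_iff.2 (by
        rintro _ ⟨d, hd, rfl⟩
        exact ⟨g * d * g⁻¹, conj_mem_of_mem_normalizer c (x := d.1) hd, rfl⟩))⟩
  have cS : ∀ g : H, q g ∈ S ↔ g.1 ∈ centralizer (KS.D.map κ : Set G) := fun g => ⟨by
      rintro ⟨d, ⟨p, p1, p2⟩, e⟩ _ ⟨r, r1, rfl⟩
      rcases (hq (g * d⁻¹)).1 (by rw [map_mul, map_inv, e, mul_inv_cancel]) with e | e <;> rw [eq_mul_of_mul_inv_eq e, ← show κ p = d.1 from p2]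
      · rw [one_mul, ← map_mul, ← map_mul, (by decide +kernel : ∀ a ∈ KS.D, ∀ b ∈ KS.D, a * b = b * a) r r1 p p1]
      · rw [← map_mul, ← map_mul, ← map_mul, (by decide +kernel : ∀ a ∈ KS.D, ∀ b ∈ KS.D, a * (⟬360⟭ * b) = ⟬360⟭ * b * a) r r1 p p1],
    fun c => by
      have c1 : ∀ d ∈ KS.D, Cj κ g d d := fun d hd => .of_comm (c _ (mem_map_of_mem κ hd)).symm
      obtain ⟨k, hk⟩ := h.cen (c1 _ (by decide +kernel))
      rcases (by decide +kernel : ∀ k, k * ⟬60⟭ * k⁻¹ = ⟬60⟭ → k * ⟬15⟭ * k⁻¹ = ⟬15⟭ → k ∈ KS.D ∨ k * ⟬360⟭ ∈ KS.D) k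
        (h.eq (hk ▸ c1 _ (by decide +kernel))) (h.eq (hk ▸ c1 _ (by decide +kernel))) with e | e
      · exact ⟨g, ⟨k, e, hk⟩, rfl⟩
      · exact ⟨g * i, ⟨_, e, by rw [map_mul, hk]; rfl⟩, by rw [map_mul, (hq i).2 (.inr rfl), mul_one]⟩⟩
  let F := (QuotientGroup.mk' (S.subgroupOf (normalizer (S : Set (H ⧸ Z))))).comp
    ((q.comp (inclusion NH)).codRestrict _ fun g => (nS _).2 g.2)
  have sF : Function.Surjective F := (QuotientGroup.mk'_surjective _).comp fun ⟨x, hx⟩ => by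
    obtain ⟨g, rfl⟩ := QuotientGroup.mk'_surjective Z x
    exact ⟨⟨g, (nS g).1 hx⟩, rfl⟩
  rcases Agent.S3333.result ((hS.mono DH le_top).toSylow.mapSurjective (QuotientGroup.mk'_surjective Z)) S rfl
    (by
      rw [← Nat.card_congr (Equiv.ofBijective (q.subgroupMap _) ⟨fun x y e => Subtype.ext (Subtype.ext
        (lf _ _ (D3 _ x.2) (D3 _ y.2) (congrArg Subtype.val e))), q.subgroupMap_surjective _⟩),
        Core.card_subgroupOf_of_le DH, card_map_of_injective h.inj, card_lsg _ _ (by decide +kernel)]; rfl)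
    (le_antisymm (fun x hx => by
      obtain ⟨g, rfl⟩ := QuotientGroup.mk'_surjective Z x
      refine (cS g).2 fun d hd => Eq.symm (mul_inv_eq_iff_eq_mul.1 (lf (g * ⟨d, DH hd⟩ * g⁻¹) ⟨d, DH hd⟩ (by
        simp [conj_pow, D3 d hd]) (D3 d hd) ?_))
      rw [map_mul, map_mul, map_inv, ← hx _ (mem_map_of_mem q (show (⟨d, DH hd⟩ : H) ∈ _ from hd)), mul_inv_cancel_right])
      (by
        rintro _ ⟨a, ha, rfl⟩ _ ⟨b, hb, rfl⟩
        rw [← map_mul, ← map_mul]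
        exact congrArg q (Subtype.ext ((cS a).1 (mem_map_of_mem q ha) _ hb))))
    ((QuotientGroup.quotientKerEquivOfSurjective F sF).symm.trans ((QuotientGroup.quotientMulEquivOfEq (by
      ext g
      exact ((QuotientGroup.eq_one_iff (N := S.subgroupOf (normalizer (S : Set (H ⧸ Z)))) _).trans
        (cS (inclusion NH g))).trans (hπ g).symm)).trans (QuotientGroup.quotientKerEquivOfSurjective π sπ)))
    (by
      rintro _ ⟨a, ⟨d, hd, e⟩, rfl⟩ a1 x hx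
      obtain ⟨g, rfl⟩ := QuotientGroup.mk'_surjective Z x
      replace e : κ d = a.1 := e
      refine (nS g).2 (h.cD hd (fun c => a1 ((hq a).2 (.inl (by rw [← e, c, map_one])))) ?_ (mH.1 g.2))
      rw [Cj, e]
      refine lf (g * a * g⁻¹) a (by simp [conj_pow, D3 a ⟨d, hd, e⟩]) (D3 a ⟨d, hd, e⟩) ?_
      rw [map_mul, map_mul, map_inv, mem_centralizer_singleton_iff.1 hx, mul_inv_cancel_right]) with c | ⟨⟨e⟩⟩
  · exact .inl fun g hg => h.nD fun d hd => ncj ((nS ⟨g, mH.2 hg⟩).1 (by rw [normalizer_eq_top]; exact mem_top _)) hd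
  · exact .inr ⟨e.toMonoidHom.comp q, e.surjective.comp (QuotientGroup.mk'_surjective Z), fun g =>
      (map_eq_one_iff _ e.injective).trans (hq g)⟩

end Cs

end Cfsg.Lib.S8L
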