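import Cfsg.Agent.Lib.S8L.Exc
import Cfsg.Agent.Lib.Layer.FStar

/-!
# The exceptional configuration: centralisers of involutions
-/

set_option maxRecDepth 100000
set_option synthInstance.maxSize 100000
set_option synthInstance.maxHeartbeats 200000
set_option Elab.async false

namespace Cfsg.Lib.S8L

open Subgroup Cfsg.Lib.X32 Cfsg.Lib.Transfer Cfsg.Lib.A8L Cfsg.Lib.JR WM

universe u

local notation "⦅" n "⦆" => KM.ea n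
local notation "⟪" p "," q "," e "," f "⟫" => WM.el p q e f

local instance factExcB : Fact (Nat.Prime 2) := ⟨Nat.prime_two⟩

variable {G : Type u} [Group G] [Finite G] {Φ : WM →* G}

namespace Cw

variable (h : Cw Φ)
include h

theorem odd {n : G} (h1 : n ∈ resOf 2 ⊤) (h2 : n ∈ normalizer ((T ⊓ N).map Φ : Set G)) {p : WM} (hp : p ∈ T ⊓ N)
    (e : Cj Φ (n * n) p p) : Cj Φ n p p := by
  obtain ⟨k, hk⟩ := exists_pow_coprime_orderOf (p := 2) n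
  obtain ⟨j, hj⟩ := Nat.coprime_two_right.1 hk
  obtain ⟨a, ha, c⟩ := h.sylA.le_of_normalizes (Q := zpowers (n ^ (2 * j + 1))) (IsPGroup.of_card_dvd_pow (n := k) (by
    rw [Nat.card_zpowers, orderOf_dvd_iff_pow_eq_one, ← pow_mul, mul_comm, pow_mul, ← hj, pow_orderOf_eq_one]))
    (zpowers_le.2 (pow_mem h1 _)) (zpowers_le.2 (pow_mem h2 _)) (mem_zpowers _)
  have c1 : Commute (n ^ (2 * j + 1)) (Φ p) := c ▸ (Commute.map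
    ((by decide +kernel : ∀ a ∈ T ⊓ N, ∀ p ∈ T ⊓ N, a * p = p * a) a ha p hp) Φ)
  have c2 : Commute ((n * n) ^ j) (Φ p) := Commute.pow_left e.comm j
  refine .of_comm ?_
  simpa only [pow_succ, pow_mul, pow_zero, one_mul, inv_mul_cancel_left] using (c2.inv_left.mul_left c1).eq

theorem cl {n : G} {p q : WM} (e : Cj Φ n p q) (hq : q ∈ T ⊓ N) (hp : p ∈ T ⊓ N ∧ p ≠ 1) :
    q ≠ 1 ∧ ((p.k.k.1 = 1 ∨ p.k.k.2 = 1) ↔ (q.k.k.1 = 1 ∨ q.k.k.2 = 1)) := by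
  have k : ∀ p ∈ T ⊓ N, p ≠ 1 → ((p.k.k.1 = 1 ∨ p.k.k.2 = 1) ↔ IsConj (Φ p) (Φ ⟪0,12,0,0⟫)) := fun p hp p1 => by
    obtain ⟨a, -, b, -, c, -, d⟩ := (by decide +kernel : ∀ p ∈ T ⊓ N, p ≠ 1 → ∃ a ∈ [0, 7, 10], ∃ b ∈ [0, 7, 10], ∃ c < 2,
      ((p.k.k.1 = 1 ∨ p.k.k.2 = 1) ∧ ⟪a,b,0,c⟫ * p * ⟪a,b,0,c⟫⁻¹ = ⟪0,12,0,0⟫) ∨
        (¬ (p.k.k.1 = 1 ∨ p.k.k.2 = 1) ∧ ⟪a,b,0,c⟫ * p * ⟪a,b,0,c⟫⁻¹ = ⟪12,12,0,0⟫)) p hp p1
    rcases d with d | d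
    exacts [iff_of_true d.1 (cjk Φ d.2).isConj, iff_of_false d.1 fun c => h.nm (by simp) (c.symm.trans (cjk Φ d.2).isConj)]
  have q1 : q ≠ 1 := fun c => hp.2 ((c ▸ e).symm.uniq h.inj .one)
  exact ⟨q1, by rw [k p hp.1 hp.2, k q hq q1]; exact ⟨e.isConj.symm.trans, e.isConj.trans⟩⟩

theorem nb {n : G} (h1 : n ∈ resOf 2 ⊤) (h2 : n ∈ normalizer ((T ⊓ N).map Φ : Set G)) (e : Cj Φ n ⟪0,12,0,0⟫ ⟪0,12,0,0⟫) :
    Cj Φ n ⟪0,47,0,0⟫ ⟪0,47,0,0⟫ := by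
  obtain ⟨q, q1, q2⟩ := ncj h2 (p := ⟪0,47,0,0⟫) (by decide +kernel)
  have a := h.cl q2 q1 (by decide +kernel)
  have b := h.cl (q2.mul e) (mul_mem q1 (by decide +kernel)) (by decide +kernel)
  rcases (by decide +kernel : ∀ q ∈ T ⊓ N, q ≠ 1 → (q.k.k.1 = 1 ∨ q.k.k.2 = 1) → q * ⟪0,12,0,0⟫ ≠ 1 →
    ((q * ⟪0,12,0,0⟫).k.k.1 = 1 ∨ (q * ⟪0,12,0,0⟫).k.k.2 = 1) → q = ⟪0,47,0,0⟫ ∨ q = ⟪0,47,0,0⟫ * ⟪0,12,0,0⟫) q q1 a.1
    (a.2.1 (by decide +kernel)) b.1 (b.2.1 (by decide +kernel)) with rfl | rfl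
  exacts [q2, h.odd h1 h2 (by decide +kernel) ((q2.comp (q2.mul e)).cast rfl (by decide +kernel))]

theorem Cb {g : G} (h1 : g ∈ resOf 2 ⊤) (e : Cj Φ g ⟪0,12,0,0⟫ ⟪0,12,0,0⟫) : g ∈ N.map Φ := by
  let C := resOf 2 ⊤ ⊓ centralizer {Φ ⟪0,12,0,0⟫}
  have hS : SylowIn 2 ((T ⊓ N).map Φ) C := h.sylA.mono (le_inf h.sylA.1 (by
    rintro _ ⟨a, ha, rfl⟩
    exact mem_cen ((by decide +kernel : ∀ a ∈ T ⊓ N, a * ⟪0,12,0,0⟫ = ⟪0,12,0,0⟫ * a) a ha))) inf_le_left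
  have hF : (T ⊓ N).map Φ ⊓ resOf 2 C ≤ F.map (Φ.comp j1) := by
    rw [hS.inf_resOf_of_comm ⟨⟨by
      rintro ⟨_, a, ha, rfl⟩ ⟨_, b, hb, rfl⟩
      exact Subtype.ext (Commute.map ((by decide +kernel : ∀ a ∈ T ⊓ N, ∀ p ∈ T ⊓ N, a * p = p * a) a ha b hb) Φ)⟩⟩, commutator_le]
    rintro _ ⟨p, hp, rfl⟩ n ⟨⟨n1, n2⟩, n3⟩
    have b := Cj.of_comm (mem_centralizer_singleton_iff.1 n2)
    have k : ∀ p ∈ [⟪12,0,0,0⟫, ⟪47,0,0,0⟫], ∃ q ∈ F, Cj Φ n p (j1 q) := fun p hp => by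
      have c := (by decide +kernel : ∀ p ∈ [⟪12,0,0,0⟫, ⟪47,0,0,0⟫], (p ∈ T ⊓ N ∧ p ≠ 1) ∧ (p * ⟪0,12,0,0⟫ ∈ T ⊓ N ∧
        p * ⟪0,12,0,0⟫ ≠ 1) ∧ ¬ ((p * ⟪0,12,0,0⟫).k.k.1 = 1 ∨ (p * ⟪0,12,0,0⟫).k.k.2 = 1) ∧ (p.k.k.1 = 1 ∨ p.k.k.2 = 1)) p hp
      obtain ⟨q, q1, q2⟩ := ncj n3 c.1.1
      obtain ⟨r, r1, rfl⟩ := (by decide +kernel : ∀ q ∈ T ⊓ N, (q.k.k.1 = 1 ∨ q.k.k.2 = 1) →
        ¬ ((q * ⟪0,12,0,0⟫).k.k.1 = 1 ∨ (q * ⟪0,12,0,0⟫).k.k.2 = 1) → ∃ r ∈ F, q = j1 r) q q1 ((h.cl q2 q1 c.1).2.1 c.2.2.2)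
        (mt (h.cl (q2.mul b) (mul_mem q1 (by decide +kernel)) c.2.1).2.2 c.2.2.1)
      exact ⟨r, r1, q2⟩
    obtain ⟨q, q1, q2⟩ := k _ (by simp : ⟪12,0,0,0⟫ ∈ _)
    obtain ⟨r, r1, r2⟩ := k _ (by simp : ⟪47,0,0,0⟫ ∈ _)
    obtain ⟨i, -, j, -, k, -, l, -, rfl, c⟩ := (by decide +kernel : ∀ p ∈ T ⊓ N, ∃ i < 2, ∃ j < 2, ∃ k < 2, ∃ l < 2,
      p = ⟪12,0,0,0⟫ ^ i * ⟪47,0,0,0⟫ ^ j * ⟪0,12,0,0⟫ ^ k * ⟪0,47,0,0⟫ ^ l ∧ ∀ q ∈ F, ∀ r ∈ F, ∃ s ∈ F,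
        j1 s = p * (j1 q ^ i * j1 r ^ j * ⟪0,12,0,0⟫ ^ k * ⟪0,47,0,0⟫ ^ l)⁻¹) p hp
    obtain ⟨s, s1, s2⟩ := c q q1 r r1
    refine ⟨s, s1, ?_⟩
    rw [MonoidHom.comp_apply, s2, map_mul Φ _ (_)⁻¹, ← ((((Cj.pow' q2 i).mul (Cj.pow' r2 j)).mul (Cj.pow' b k)).mul
      (Cj.pow' (h.nb n1 n3 b) l)).inv, commutatorElement_def, map_inv]
    simp only [mul_assoc]
  have i1 : Function.Injective (Φ.comp j1) := h.inj.comp fun _ _ e => congrArg (·.k.k.1) e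
  have mL : ∀ n, (Φ.comp j1) n ∈ resOf 2 C := oddA fun n => ⟨NR ⟨rfl, rfl⟩,
    mem_cen ((by decide +kernel : ∀ n, j1 n * ⟪0,12,0,0⟫ = ⟪0,12,0,0⟫ * j1 n) n)⟩
  have LC : (Φ.comp j1).range ≤ resOf 2 C := by rintro _ ⟨n, rfl⟩; exact mL n
  have cL : Nat.card (Φ.comp j1).range = 60 := by rw [← Nat.card_congr (MonoidHom.ofInjective i1).toEquiv, A60.card]
  obtain ⟨w, w1, _, ⟨a, ha, rfl⟩, rfl⟩ := hS.exists_resOf_mul (x := g) ⟨h1, mem_centralizer_singleton_iff.2 e.comm⟩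
  refine mul_mem ?_ (mem_map_of_mem Φ ha.2)
  rcases ft3g (L := resOf 2 C) (Z := ⊥) (c := (Φ.comp j1) ⦅15⦆) IsPGroup.of_bot bot_le (by simp)
    (by rw [← map_mul, ← map_mul, map_eq_one_iff _ i1]; decide +kernel) (by rw [Ne, map_eq_one_iff _ i1]; decide +kernel) (mL _)
    (fun g g1 g2 => by
      obtain ⟨p, p1, q, e, rfl⟩ := h.cz g (.of_comm g2)
      obtain ⟨k, -, c⟩ := (by decide +kernel : ∀ p ∈ Z, ∀ q e, WM.mk p q e false * ⟪0,12,0,0⟫ * (WM.mk p q e false)⁻¹ = ⟪0,12,0,0⟫ →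
        ∃ k < 3, WM.mk p q e false * j1 ⦅15⦆ ^ k ∈ T ∧ ∀ s ∈ F, j1 s = WM.mk p q e false * j1 ⦅15⦆ ^ k → s = 1) p p1 q e
        (h.eq (.of_comm (mem_centralizer_singleton_iff.1 (resOf_le C g1).2)))
      have m := mul_mem g1 (pow_mem (mL ⦅15⦆) k)
      rw [MonoidHom.comp_apply, ← map_pow, ← map_mul] at m
      obtain ⟨s, s1, s2⟩ := hF ⟨mem_map_of_mem Φ ⟨c.1, h.TR c.1 (resOf_le C m).1⟩, m⟩
      refine ⟨k, ?_⟩
      rw [zpow_natCast, MonoidHom.comp_apply, ← map_pow, ← map_mul, ← s2, c.2 s s1 (h.inj s2), map_one]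
      exact one_mem _) with ⟨P, -, W, -, hP, -, -, -, -, -, -, -, cm⟩ | ⟨π, hπ, sπ⟩ | c
  · have k : ∀ x y : A60, (x * y * x⁻¹ * y⁻¹) ^ 4 = 1 → (Φ.comp j1) (x * y * x⁻¹ * y⁻¹) ∈ P := fun x y e => by
      simpa only [map_mul, map_inv] using cm _ (mL x) _ (mL y) (by simpa only [map_mul, map_inv, map_pow, map_one] using congrArg (Φ.comp j1) e)
    obtain ⟨j, hj⟩ := hP ⟨_, mul_mem (k ⦅1⦆ ⦅3⦆ (by decide +kernel)) (k ⦅1⦆ ⦅27⦆ (by decide +kernel))⟩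
    have : (_ * _) ^ 2 ^ j = (1 : G) := congrArg Subtype.val hj
    rw [← map_mul, ← map_pow, map_eq_one_iff _ i1] at this
    exact absurd (orderOf_eq_one_iff.1 ((cop (q := 3) this (by decide)).eq_one_of_dvd
      (orderOf_dvd_of_pow_eq_one (by decide +kernel)))) (by decide +kernel)
  · obtain ⟨j, hj⟩ := IsPGroup.iff_card.1 hπ
    have c := card_mul_relIndex hS.inf_resOf.1
    have d := card_dvd_of_le hF
    rw [card_map_of_injective i1, card_lsg _ _ (by decide +kernel)] at d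
    have f := card_mul_index π.ker
    rw [index_ker, MonoidHom.range_eq_top.2 sπ, card_top, A60.card, hj] at f
    obtain ⟨n, rfl⟩ := (eq_of_le_of_card_ge LC (by
      rcases j with _ | j
      · omega
      obtain ⟨x, hx⟩ := d
      refine (hS.inf_resOf.3 (Nat.dvd_of_mul_dvd_mul_left (show 0 < 4 by decide) ?_)).elim
      refine Dvd.dvd.trans ⟨2 ^ j * 15, ?_⟩ (Nat.mul_dvd_mul_right ⟨x, hx⟩ _)
      rw [c, ← f]; ring)).ge w1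
    exact mem_map_of_mem Φ ⟨rfl, rfl⟩
  · have := card_dvd_of_le LC
    rw [c, cL, card_bot] at this
    exact absurd this (by decide)

omit h [Finite G] in
theorem cjN {g : G} {p q s : WM} (c : s * p * s⁻¹ = q) (k : ∀ g ∈ resOf 2 ⊤, Cj Φ g q q → g ∈ N.map Φ) (h1 : g ∈ resOf 2 ⊤)
    (e : Cj Φ g p p) : g ∈ N.map Φ := by
  obtain ⟨x, x1, x2⟩ := k _ ((resOf_normal ⊤).conj_mem _ h1 (Φ s)) ((e.conj s).cast c c)
  exact ⟨_, (inferInstance : N.Normal).conj_mem' _ x1 s, by rw [map_mul, map_mul, x2, map_inv]; group⟩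

theorem Cm {g : G} (h1 : g ∈ resOf 2 ⊤) (e : Cj Φ g ⟪12,12,0,0⟫ ⟪12,12,0,0⟫) : g ∈ N.map Φ := by
  let C := resOf 2 ⊤ ⊓ centralizer {Φ ⟪12,12,0,0⟫}
  have hS : SylowIn 2 ((T ⊓ N).map Φ) C := h.sylA.mono (le_inf h.sylA.1 (by
    rintro _ ⟨a, ha, rfl⟩
    exact mem_cen ((by decide +kernel : ∀ a ∈ T ⊓ N, a * ⟪12,12,0,0⟫ = ⟪12,12,0,0⟫ * a) a ha))) inf_le_left
  have c := (hS.pnil_of_normalizer_le_centralizer (by
    rintro n ⟨⟨n1, n2⟩, n3⟩ _ ⟨p, hp, rfl⟩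
    have m := Cj.of_comm (mem_centralizer_singleton_iff.1 n2)
    obtain ⟨q, q1, q2⟩ := ncj n3 (p := ⟪0,12,0,0⟫) (by decide +kernel)
    have b : Cj Φ n ⟪0,12,0,0⟫ ⟪0,12,0,0⟫ := by
      rcases (by decide +kernel : ∀ q ∈ T ⊓ N, (q.k.k.1 = 1 ∨ q.k.k.2 = 1) → ((q * ⟪12,12,0,0⟫).k.k.1 = 1 ∨
        (q * ⟪12,12,0,0⟫).k.k.2 = 1) → q = ⟪0,12,0,0⟫ ∨ q = ⟪0,12,0,0⟫ * ⟪12,12,0,0⟫) q q1
        ((h.cl q2 q1 (by decide +kernel)).2.1 (by decide +kernel))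
        ((h.cl (q2.mul m) (mul_mem q1 (by decide +kernel)) (by decide +kernel)).2.1 (by decide +kernel)) with rfl | rfl
      exacts [q2, h.odd n1 n3 (by decide +kernel) ((q2.comp (q2.mul m)).cast rfl (by decide +kernel))]
    have uA : Φ ⟪0,0,0,1⟫ ∈ normalizer ((T ⊓ N).map Φ : Set G) := nrm fun p hp =>
      ⟨_, (by decide +kernel : ∀ p ∈ T ⊓ N, ⟪0,0,0,1⟫ * p * ⟪0,0,0,1⟫⁻¹ ∈ T ⊓ N) p hp, .of _ p⟩
    have w := (h.nb ((resOf_normal ⊤).conj_mem _ n1 _) (mul_mem (mul_mem uA n3) (inv_mem uA))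
      (((b.mul m).conj ⟪0,0,0,1⟫).cast (by decide +kernel) (by decide +kernel))).conj ⟪0,0,0,1⟫⁻¹
    obtain ⟨i, -, j, -, k, -, l, -, rfl⟩ := (by decide +kernel : ∀ p ∈ T ⊓ N, ∃ i < 2, ∃ j < 2, ∃ k < 2, ∃ l < 2,
      p = ⟪12,12,0,0⟫ ^ i * (⟪0,0,0,1⟫⁻¹ * ⟪0,47,0,0⟫ * ⟪0,0,0,1⟫⁻¹⁻¹) ^ j * ⟪0,12,0,0⟫ ^ k * ⟪0,47,0,0⟫ ^ l) p hp
    exact ((((Cj.pow' m i).mul (Cj.pow' (w.cast' (by rw [map_inv]; group)) j)).mul (Cj.pow' b k)).mul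
      (Cj.pow' (h.nb n1 n3 b) l)).comm.symm)).coprime
  have k : ∀ p s, s * p * s⁻¹ = ⟪0,12,0,0⟫ → ∀ d ∈ resOf 2 C, Commute d (Φ p) → d = 1 := fun p s a d d1 d2 => by
    obtain ⟨x, x1, rfl⟩ := cjN a (fun _ => h.Cb) (resOf_le C d1).1 (.of_comm d2)
    refine orderOf_eq_one_iff.1 (Nat.eq_one_of_dvd_coprimes c (orderOf_dvd_natCard _ d1) (orderOf_dvd_of_pow_eq_one ?_))
    rw [← map_pow, (by decide +kernel : ∀ a ∈ T ⊓ N, a ^ 2 = 1) x ⟨WM.cm x1 (h.inj (by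
      rw [map_mul, map_mul]; exact mem_centralizer_singleton_iff.1 (resOf_le C d1).2)), x1⟩, map_one]
  have nR : ∀ p ∈ T ⊓ N, Φ p ∈ normalizer (resOf 2 C : Set G) := fun p hp => le_normalizer_resOf C (hS.1 (mem_map_of_mem Φ hp))
  obtain ⟨w, w1, _, ⟨a, ha, rfl⟩, rfl⟩ := hS.exists_resOf_mul (x := g) ⟨h1, mem_centralizer_singleton_iff.2 e.comm⟩
  rw [fpf (v := Φ ⟪0,12,0,0⟫) (s := Φ ⟪0,47,0,0⟫) (by rw [← map_mul, map_eq_one_iff _ h.inj]; decide +kernel)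
    (by rw [← map_mul, map_eq_one_iff _ h.inj]; decide +kernel) (nR _ (by decide +kernel)) (nR _ (by decide +kernel))
    (k _ 1 (by decide +kernel)) (k _ ⟪0,10,0,0⟫ (by decide +kernel)) (map_mul Φ _ _ ▸ k _ ⟪0,7,0,0⟫ (by decide +kernel)),
    mem_bot] at w1
  rw [w1, one_mul]
  exact mem_map_of_mem Φ ha.2

theorem RN {g : G} (h1 : g ∈ resOf 2 ⊤) : g ∈ N.map Φ := by
  have xR : g * Φ ⟪12,12,0,0⟫ * g⁻¹ ∈ resOf 2 ⊤ := (resOf_normal ⊤).conj_mem _ (NR (by decide +kernel)) _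
  have mx : IsConj (Φ ⟪12,12,0,0⟫) (g * Φ ⟪12,12,0,0⟫ * g⁻¹) := isConj_iff.2 ⟨g, rfl⟩
  obtain ⟨c, c2, c3, c4, c5⟩ := Invol.exists_central_of_not_isConj (x := g * Φ ⟪12,12,0,0⟫ * g⁻¹) (y := Φ ⟪0,12,0,0⟫)
    (by rw [conj_mul, ← map_mul, conj_eq_one_iff, map_eq_one_iff _ h.inj]; decide +kernel)
    (by rw [← map_mul, map_eq_one_iff _ h.inj]; decide +kernel) fun c => h.nm (by simp) (mx.trans c).symm
  obtain ⟨p, p1, rfl⟩ := h.Cb (zpowers_le.2 (mul_mem xR (NR (by decide +kernel))) c5) (.of_comm c4)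
  obtain ⟨x, x1, x2⟩ : g * Φ ⟪12,12,0,0⟫ * g⁻¹ ∈ N.map Φ := by
    rcases WM.inv p1 (h.inj (by rw [map_mul, map_one, ← pow_two, ← c2, pow_orderOf_eq_one])) with rfl | ⟨s, a⟩ | ⟨s, -, a⟩
    exacts [by simp at c2, cjN a (fun _ => h.Cb) xR (.of_comm c3.symm), cjN a (fun _ => h.Cm) xR (.of_comm c3.symm)]
  have e := h.sq (x2 ▸ mx) (by decide +kernel)
  rcases WM.inv x1 e.1 with a | ⟨s, a⟩ | ⟨s, s1, a⟩
  · exact absurd a e.2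
  · exact (h.nm (by simp) ((x2 ▸ mx :).trans (cjk Φ a).isConj).symm).elim
  · exact (mul_mem_cancel_left (mem_map_of_mem Φ s1)).1 (h.Cm (mul_mem (NR s1) h1) (Cj.comp x2.symm (cjk Φ a)))

theorem surj : Function.Surjective Φ := fun g => by
  obtain ⟨w, w1, _, ⟨a, -, rfl⟩, rfl⟩ := h.syl.exists_resOf_mul (mem_top g)
  obtain ⟨x, -, rfl⟩ := h.RN w1
  exact ⟨_, map_mul _ _ _⟩

theorem main : ∃ N : Subgroup G, N.Normal ∧ generalizedFittingSubgroup G = N ∧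
    Nonempty (N ≃* alternatingGroup (Fin 5) × alternatingGroup (Fin 5)) ∧ (∀ K : Subgroup G, K.Normal → K ≤ N → K = ⊥ ∨ K = N) ∧
      N.index = 4 ∧ ∀ g : G, g ^ 2 ∈ N := by
  have : (N.map Φ).Normal := Normal.map inferInstance _ h.surj
  have : IsSimpleGroup A60 := A60.equiv.isSimpleGroup
  have mn : ∀ K : Subgroup G, K.Normal → K ≤ N.map Φ → K = ⊥ ∨ K = N.map Φ := fun K hK KN => by
    have sw : ∀ p q, Φ (j1 p * j2 q) ∈ K → Φ (j1 q * j2 p) ∈ K := fun p q c => by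
      have := hK.conj_mem _ c (Φ ⟪0,0,0,1⟫)
      rwa [Cj.of, show ⟪0,0,0,1⟫ * (j1 p * j2 q) * ⟪0,0,0,1⟫⁻¹ = j1 q * j2 p from Ex.ext' (Ex.ext' (Prod.ext
        ((by decide +kernel : ∀ q : A60, ⦅0⦆ * (1 * q) * ⦅0⦆⁻¹ = q * 1) q)
        ((by decide +kernel : ∀ p : A60, ⦅0⦆ * (p * 1) * ⦅0⦆⁻¹ = 1 * p) p)) rfl) rfl] at this
    refine ((hK.comap (Φ.comp j2)).eq_bot_or_eq_top).imp (fun c => eq_bot_iff.2 fun g hg => ?_) fun c => le_antisymm KN ?_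
    · have k : ∀ p q, Φ (j1 p * j2 q) ∈ K → q = 1 := fun p q d => (by decide +kernel : ∀ q : A60,
        (∀ n ∈ [⦅15⦆, ⦅12⦆], q * n * q⁻¹ * n⁻¹ = 1) → q = 1) q fun n _ => mem_bot.1 (c.le (by
          have := mul_mem d (hK.conj_mem _ (inv_mem d) (Φ (j2 n)))
          have cm : Commute (j1 p) (j2 (q * n * q⁻¹)) := Ex.ext' (Ex.ext' (Prod.ext ((mul_one p).trans (one_mul p).symm)
            ((one_mul _).trans (mul_one _).symm)) rfl) rfl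
          rw [← map_inv, ← map_inv, ← map_mul, ← map_mul, ← map_mul, show j1 p * j2 q * (j2 n * (j1 p * j2 q)⁻¹ * (j2 n)⁻¹) =
            j1 p * j2 (q * n * q⁻¹) * (j1 p)⁻¹ * (j2 n)⁻¹ by simp only [map_mul, map_inv]; group, cm.eq, mul_inv_cancel_right,
            ← map_inv, ← map_mul] at this
          exact this))
      obtain ⟨x, hx, rfl⟩ := KN hg
      rw [dN hx] at hg ⊢
      rw [k _ _ hg, k _ _ (sw _ _ hg)]
      simp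
    · rintro _ ⟨x, hx, rfl⟩
      rw [dN hx, map_mul]
      exact mul_mem (by simpa using sw 1 x.k.k.1 (by simpa using c.ge (mem_top x.k.k.1))) (c.ge (mem_top x.k.k.2))
  have cN : centralizer (N.map Φ : Set G) ≤ N.map Φ := fun g hg => by
    have c : ∀ p ∈ N, Cj Φ g p p := fun p hp => .of_comm (hg _ (mem_map_of_mem Φ hp)).symm
    obtain ⟨p, p1, q, e, rfl⟩ := h.cz g (c _ (by decide +kernel))
    exact mem_map_of_mem Φ ((by decide +kernel : ∀ p ∈ Z, ∀ q e, (∀ n ∈ [15, 12, 47], WM.mk p q e false * ⟪0,n,0,0⟫ *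
      (WM.mk p q e false)⁻¹ = ⟪0,n,0,0⟫) → WM.mk p q e false ∈ N) p p1 q e fun n _ => h.eq (c _ ⟨rfl, rfl⟩))
  let j : A60 × A60 →* WM := Ex.inl.comp Ex.inl
  have hj : Function.Injective (Φ.comp j) := h.inj.comp fun _ _ e => congrArg (·.k.k) e
  have rj : (Φ.comp j).range = N.map Φ := by
    rw [← MonoidHom.map_range]
    refine congrArg _ (le_antisymm (by rintro _ ⟨x, rfl⟩; exact ⟨rfl, rfl⟩) ?_)
    rintro ⟨⟨a, _⟩, _⟩ ⟨rfl, rfl⟩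
    exact ⟨a, rfl⟩
  let e := (MonoidHom.ofInjective hj).trans (MulEquiv.subgroupCongr rj)
  have := Layer.fit_normal (G := G)
  have : Nontrivial G := ⟨⟨_, _, fun e => absurd (h.inj e : ⟪0,0,0,0⟫ = ⟪0,0,0,1⟫) (by decide +kernel)⟩⟩
  refine ⟨_, inferInstance, (mn _ Layer.fstar_normal (Layer.fstar_le_of_centralizer_le (Normal.isSubnormal inferInstance) ?_ cN)).resolve_left
    Layer.fstar_ne_bot, ⟨e.symm.trans (A60.equiv.prodCongr A60.equiv)⟩, mn, ?_, fun g => ?_⟩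
  · rcases mn (fittingSubgroup G ⊓ N.map Φ) inferInstance inf_le_right with c | c
    · exact (commutator_eq_bot_iff_le_centralizer.1 (eq_bot_iff.2 (c ▸ commutator_le_inf _ _))).trans cN
    · have := Layer.fit_solvable (G := G)
      let f : A60 →* fittingSubgroup G := (Φ.comp j2).codRestrict _ fun n => (c.ge (mem_map_of_mem Φ ⟨rfl, rfl⟩)).1
      exact absurd (IsSimpleGroup.comm_iff_isSolvable.2 (Group.isSolvable_of_isSolvable_injective (f := f) fun a b e =>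
        congrArg (·.k.k.2) (h.inj (congrArg Subtype.val e) : j2 a = j2 b)) ⦅15⦆ ⦅12⦆) (by decide +kernel)
  · have c := (N.map Φ).card_mul_index
    rw [← Nat.card_congr e.toEquiv, ← Nat.card_congr (Equiv.ofBijective Φ ⟨h.inj, h.surj⟩), Nat.card_congr Ex.eqv, Nat.card_prod,
      Nat.card_prod, Nat.card_congr Ex.eqv, Nat.card_prod, Nat.card_prod, A60.card] at c
    simp only [Nat.card_eq_fintype_card, Fintype.card_bool] at c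
    omega
  · obtain ⟨x, rfl⟩ := h.surj g
    rw [← map_pow, pow_two]
    refine mem_map_of_mem Φ ?_
    obtain ⟨⟨a, _ | _⟩, _ | _⟩ := x <;> exact ⟨rfl, rfl⟩

end Cw

end Cfsg.Lib.S8L
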