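import Cfsg.Agent.Lib.S8L.Cs

/-!
# Setting up the configuration
-/

set_option maxRecDepth 100000
set_option synthInstance.maxSize 100000
set_option synthInstance.maxHeartbeats 200000
set_option Elab.async false

namespace Cfsg.Lib.S8L

open Subgroup Cfsg.Lib.X32 Cfsg.Lib.Transfer Cfsg.Lib.A8L Equiv

universe u

local notation "⟬" n "⟭" => KS.el n

variable {G : Type u} [Group G] [Finite G]

omit [Finite G] in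
theorem exists_rho {κ : KS →* G} (hi : Function.Injective κ)
    (nz : ∀ g, Cj κ g ⟬60⟭ ⟬60⟭ ∨ Cj κ g ⟬60⟭ ⟬120⟭ → ∃ k, κ k = g)
    (π : normalizer (KS.D.map κ : Set G) →* DihedralGroup 4) (sπ : Function.Surjective π)
    (hπ : ∀ g, π g = 1 ↔ g.1 ∈ centralizer (KS.D.map κ : Set G)) (mN : κ ⟬540⟭ ∈ normalizer (KS.D.map κ : Set G)) :
    ∃ ρ, Cj κ ρ ⟬60⟭ ⟬15⟭ ∧ Cj κ ρ ⟬15⟭ ⟬60⟭ := by
  obtain ⟨ρ, hρ⟩ := sπ (.r 1)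
  obtain ⟨e, e1, e2⟩ := ncj ρ.2 (p := ⟬60⟭) (by decide +kernel)
  obtain ⟨f, f1, f2⟩ := ncj ρ.2 (p := ⟬15⟭) (by decide +kernel)
  let a : normalizer (KS.D.map κ : Set G) := ⟨_, mN⟩
  have c := (hπ (ρ * a * ρ⁻¹ * a * (ρ * a * ρ⁻¹)⁻¹ * a⁻¹)).1 (by
    simp only [map_mul, map_inv]
    exact (by decide +kernel : ∀ x y : DihedralGroup 4, x * y * x⁻¹ * y * (x * y * x⁻¹)⁻¹ * y⁻¹ = 1) _ _)
  have t1 : Cj κ (ρ * κ ⟬540⟭ * (ρ : G)⁻¹) e e⁻¹ := ((e2.symm.comp (cjk κ (k := ⟬540⟭) (q := ⟬60⟭⁻¹) (by decide +kernel))).comp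
    e2.inv).cast' (mul_assoc _ _ _).symm
  have t2 : Cj κ (ρ * κ ⟬540⟭ * (ρ : G)⁻¹) f f := ((f2.symm.comp (cjk κ (k := ⟬540⟭) (q := ⟬15⟭) (by decide +kernel))).comp
    f2).cast' (mul_assoc _ _ _).symm
  have t3 : ∀ {p q}, q ∈ KS.D → Cj κ (ρ * κ ⟬540⟭ * (ρ : G)⁻¹) p q →
      Cj κ (ρ * κ ⟬540⟭ * (ρ : G)⁻¹) (⟬540⟭ * p * ⟬540⟭⁻¹) (⟬540⟭ * q * ⟬540⟭⁻¹) := fun {p q} hq t =>
    ((((Cj.of ⟬540⟭ p).symm.comp t).comp (.of ⟬540⟭ q)).comp (.of_comm (c _ (mem_map_of_mem κ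
      ((by decide +kernel : ∀ q ∈ KS.D, ⟬540⟭ * q * ⟬540⟭⁻¹ ∈ KS.D) q hq))).symm)).cast' (by simp only [a, coe_mul, coe_inv]; group)
  have ne : ∀ {p q p' q'}, Cj κ ρ p q → Cj κ ρ p' q' → p ≠ p' → q ≠ q' := fun c c' n e => n ((e ▸ c).symm.uniq hi c'.symm)
  obtain ⟨i, -, j, -, a1, i', -, j', -, a2, a3⟩ := (by decide +kernel : ∀ e ∈ KS.D, ∀ f ∈ KS.D, e ≠ 1 → f ≠ 1 → e ≠ f → e ≠ f⁻¹ →
    ∃ i < 3, ∃ j < 3, e ^ i * f ^ j = ⟬540⟭ * e * ⟬540⟭⁻¹ ∧ ∃ i' < 3, ∃ j' < 3, e ^ i' * f ^ j' = ⟬540⟭ * f * ⟬540⟭⁻¹ ∧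
      (e⁻¹ ^ i * f ^ j = ⟬540⟭ * e⁻¹ * ⟬540⟭⁻¹ → e⁻¹ ^ i' * f ^ j' = ⟬540⟭ * f * ⟬540⟭⁻¹ → (e = ⟬60⟭ ∨ e = ⟬120⟭) ∨
        ∃ v ∈ [1, ⟬540⟭, ⟬372⟭, ⟬192⟭], v * e * v⁻¹ = ⟬15⟭ ∧ v * f * v⁻¹ = ⟬60⟭)) e e1 f f1
    (ne e2 .one (by decide +kernel)) (ne f2 .one (by decide +kernel)) (ne e2 f2 (by decide +kernel)) (ne e2 f2.inv (by decide +kernel))
  rcases a3 ((((Cj.pow' t1 i).mul (Cj.pow' t2 j)).cast a1 rfl).uniq hi (t3 (inv_mem e1) t1))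
    ((((Cj.pow' t1 i').mul (Cj.pow' t2 j')).cast a2 rfl).uniq hi (t3 f1 t2)) with c | ⟨v, -, c1, c2⟩
  · obtain ⟨k, hk⟩ := nz ρ (c.imp (e2.cast rfl) (e2.cast rfl))
    have := (hπ (ρ * ρ)).2 (by
      rintro _ ⟨d, hd, rfl⟩
      show _ * (ρ.1 * ρ) = ρ.1 * ρ * _
      rw [← hk, ← map_mul, ← map_mul, ← map_mul, (by decide +kernel : ∀ k, k * ⟬15⟭ * k⁻¹ ∈ KS.D → ∀ d ∈ KS.D,
        d * (k * k) = k * k * d) k ((hk ▸ f2).uniq hi (.of k _) ▸ f1) d hd])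
    rw [map_mul, hρ] at this
    exact absurd this (by decide)
  · exact ⟨_, e2.comp (cjk κ c1), f2.comp (cjk κ c2)⟩

theorem exists_cs {D : Subgroup G} {y z : G} (hgen : closure {y, z} = D) (hcard : Nat.card D = 9) (y3 : y ^ 3 = 1) (z3 : z ^ 3 = 1)
    (yz : y * z = z * y) (π : normalizer (D : Set G) →* DihedralGroup 4) (sπ : Function.Surjective π)
    (hπ : ∀ g, π g = 1 ↔ g.1 ∈ centralizer (D : Set G)) (hy : ∀ g, g * y = y * g → g * g ∈ D ∧ ∀ d ∈ D, g * d * g⁻¹ ∈ D)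
    (hN : ∀ g ∈ normalizer (zpowers y : Set G), g * g ∈ D)
    (eL : normalizer (zpowers z : Set G) ≃* Perm (Fin 3) × Perm (Fin 5)) :
    ∃ (κ : KS →* G) (u : G), D = KS.D.map κ ∧ Cs κ u ∧ (Cj κ u ⟬540⟭ ⟬372⟭ ∨ Cj κ u ⟬540⟭ ⟬12⟭) := by
  have nc : ∀ x : G, x ^ 3 = 1 → y ∈ zpowers x → z ∈ zpowers x → False := fun x x3 h1 h2 => by
    have := card_le_of_le (show D ≤ zpowers x from hgen ▸ (closure_le _).2 (by rintro _ (rfl | rfl); exacts [h1, h2]))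
    have := Nat.le_of_dvd three_pos (orderOf_dvd_of_pow_eq_one x3)
    rw [Nat.card_zpowers] at *; omega
  let e := KS.equiv.trans eL.symm
  let κ : KS →* G := (Subgroup.subtype _).comp e.toMonoidHom
  have hi : Function.Injective κ := Subtype.val_injective.comp e.injective
  have hr : ∀ g, g ∈ normalizer (zpowers z : Set G) ↔ ∃ k, κ k = g := fun g =>
    ⟨fun h => ⟨e.symm ⟨g, h⟩, by simp [κ]⟩, fun ⟨k, h⟩ => h ▸ (e k).2⟩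
  have nz : ∀ g, g * z * g⁻¹ ∈ zpowers z → ∃ k, κ k = g := fun g h => (hr g).1 (mem_normalizer_of_cj_le (cj_le_iff.2 (by
    rintro _ ⟨j, rfl⟩
    simpa only [conj_zpow] using zpow_mem h j)))
  clear_value κ
  obtain ⟨a, rfl⟩ := nz z (by simp)
  obtain ⟨b, rfl⟩ := nz y (by simp [yz])
  have zp : ∀ {c x : KS}, c ^ 3 = 1 → κ x ∈ zpowers (κ c) → x = 1 ∨ x = c ∨ x = c⁻¹ := fun c3 h => by
    have := zp3 (by rw [← map_pow, c3, map_one]) h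
    rwa [← map_inv, ← map_one κ, hi.eq_iff, hi.eq_iff, hi.eq_iff] at this
  rw [← map_pow, map_eq_one_iff κ hi] at y3 z3
  have ha := (by decide +kernel : ∀ a : KS, a ≠ 1 → a ^ 3 = 1 → (∀ k ∈ [⟬12⟭, ⟬13⟭, ⟬15⟭], k * a * k⁻¹ = 1 ∨ k * a * k⁻¹ = a ∨
    k * a * k⁻¹ = a⁻¹) → a = ⟬60⟭ ∨ a = ⟬120⟭) a (fun c => nc _ (by rw [← map_pow, y3, map_one]) (mem_zpowers _) (by simp [c])) z3
    fun k _ => zp z3 (by rw [map_mul, map_mul, map_inv]; exact conj_mem_of_mem_normalizer ((hr _).2 ⟨k, rfl⟩) (mem_zpowers _))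
  obtain ⟨k, k1, k2⟩ := (by decide +kernel : ∀ a, a = ⟬60⟭ ∨ a = ⟬120⟭ → ∀ b, b ^ 3 = 1 → b * a = a * b → b ≠ 1 → b ≠ a → b ≠ a⁻¹ →
      ∃ k, (k * a * k⁻¹ = ⟬60⟭ ∨ k * a * k⁻¹ = ⟬60⟭⁻¹) ∧ (k * b * k⁻¹ = ⟬15⟭ ∨ k * b * k⁻¹ = ⟬75⟭)) a ha b y3 (hi (by rw [map_mul, map_mul, yz]))
    (fun c => nc _ (by rw [← map_pow, z3, map_one]) (by simp [c]) (mem_zpowers _))
    (fun c => nc _ (by rw [← map_pow, z3, map_one]) (by simp [c]) (mem_zpowers _))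
    (fun c => nc _ (by rw [← map_pow, z3, map_one]) (by simp [c]) (mem_zpowers _))
  let μ := κ.comp (MulAut.conj k⁻¹).toMonoidHom
  have hμ : Function.Injective μ := hi.comp (MulEquiv.injective _)
  have m1 : κ a = μ (k * a * k⁻¹) := by simp [μ, mul_assoc]
  have m2 : κ b = μ (k * b * k⁻¹) := by simp [μ, mul_assoc]
  have nz' : ∀ g, Cj μ g ⟬60⟭ ⟬60⟭ ∨ Cj μ g ⟬60⟭ ⟬120⟭ → ∃ k, μ k = g := fun g h => by
    obtain ⟨p, rfl⟩ := nz g (by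
      unfold Cj at h
      rw [m1, show μ ⟬120⟭ = (μ ⟬60⟭)⁻¹ from map_inv μ ⟬60⟭] at *
      rcases k1 with c | c <;> rw [c] <;> rcases h with h | h <;> simp [h, ← conj_inv (b := g)])
    exact ⟨k * p * k⁻¹, by simp [μ, mul_assoc]⟩
  rw [m1, m2] at hgen
  rw [m2] at hy hN
  generalize k * b * k⁻¹ = c at *
  generalize k * a * k⁻¹ = c' at *
  clear_value μ
  obtain rfl : D = KS.D.map μ := by
    rw [← hgen, ← Set.image_pair, ← MonoidHom.map_closure]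
    refine congrArg _ (le_antisymm ((closure_le _).2 ?_) fun d hd => ?_)
    · rintro x (rfl | rfl) <;> show x ∈ KS.D
      exacts [by rcases k2 with rfl | rfl <;> decide +kernel, by rcases k1 with rfl | rfl <;> decide +kernel]
    obtain ⟨i, -, j, -, rfl⟩ := (by decide +kernel : ∀ c ∈ [⟬15⟭, ⟬75⟭], ∀ c' ∈ [⟬60⟭, ⟬60⟭⁻¹], ∀ d ∈ KS.D,
      ∃ i < 3, ∃ j < 3, d = c ^ i * c' ^ j) c (by simpa using k2) c' (by simpa using k1) d hd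
    exact mul_mem (pow_mem (subset_closure (by simp)) _) (pow_mem (subset_closure (by simp)) _)
  obtain ⟨ρ, r1, r2⟩ := exists_rho hμ nz' π sπ hπ (nrm fun p hp => ⟨_,
    (by decide +kernel : ∀ q ∈ KS.D, ⟬540⟭ * q * ⟬540⟭⁻¹ ∈ KS.D) p hp, .of _ p⟩)
  rcases k2 with rfl | rfl
  · obtain ⟨d, hd, c⟩ := (hy _ ((r1.symm.comp (cjk μ (k := ⟬376⟭) (by decide +kernel))).comp r1).comm).1
    rw [← mul_assoc ρ, conj_mul, ← map_mul] at c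
    have c : Cj μ ρ _ d := c.symm
    exact absurd (((by decide +kernel : ∀ d ∈ KS.D, d * d = 1 → d = 1) d hd ((c.mul c).uniq hμ
      (Cj.one.cast (by decide +kernel) rfl)) ▸ c).symm.uniq hμ .one) (by decide +kernel)
  have hy' : ∀ g, Cj μ g ⟬75⟭ ⟬75⟭ → g * g ∈ KS.D.map μ ∧ ∀ d ∈ KS.D, ∃ e ∈ KS.D, Cj μ g d e := fun g c =>
    ⟨(hy g c.comm).1, fun d hd => ((hy g c.comm).2 _ (mem_map_of_mem μ hd)).imp fun e he => ⟨he.1, he.2.symm⟩⟩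
  have r3 := (r1.mul r2).cast (show _ = ⟬75⟭ by decide +kernel) (show _ = ⟬75⟭ by decide +kernel)
  have tk : ∀ {x : G} (p : KS), Cj μ x ⟬15⟭ ⟬60⟭ → (p * ⟬15⟭ * p⁻¹ = ⟬15⟭ ∨ p * ⟬15⟭ * p⁻¹ = ⟬15⟭⁻¹) → ∃ l, Cj μ x p l :=
    fun {x} p c e => (nz' (x * (μ p * x⁻¹)) (e.imp (fun e => (c.symm.comp (cjk μ e)).comp c) fun e =>
      (c.symm.comp (cjk μ e)).comp (c.inv.cast rfl (by decide +kernel)))).imp fun l hl => (hl.trans (mul_assoc _ _ _).symm).symm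
  obtain ⟨l, hl⟩ := tk ⟬192⟭ r2 (by decide +kernel)
  obtain ⟨d0, h0, e0⟩ := (hy' ρ r3).1
  obtain ⟨d1, h1, e1⟩ := hN (ρ * μ ⟬192⟭) (mem_normalizer_of_cj_le (cj_le_iff.2 (by
    rintro _ ⟨j, rfl⟩
    have : Cj μ _ ⟬75⟭ ⟬75⟭⁻¹ := (cjk μ (k := ⟬192⟭) (by decide +kernel)).comp r3.inv
    simp only [← conj_zpow]
    rw [this, map_inv]
    exact zpow_mem (inv_mem (mem_zpowers _)) j)))
  obtain ⟨d, hd, e2, e3, e4⟩ := (by decide +kernel : ∀ d0 ∈ KS.D, ∀ d1 ∈ KS.D, ∃ d ∈ KS.D, d * (d1 * ⟬192⟭⁻¹ * d0⁻¹) * d⁻¹ = ⟬192⟭ ∧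
    d * ⟬15⟭ * d⁻¹ = ⟬15⟭ ∧ d * ⟬60⟭ * d⁻¹ = ⟬60⟭) d0 h0 d1 h1
  have u1 := (hl.cast rfl (hμ (show μ l = μ (d1 * ⟬192⟭⁻¹ * d0⁻¹) by
    rw [map_mul, map_mul, map_inv, map_inv, e0, e1, ← hl]; group))).comp (cjk μ e2)
  have u2 := r1.comp (cjk μ e3)
  have u3 := r2.comp (cjk μ e4)
  generalize μ d * ρ = u at u1 u2 u3
  obtain ⟨p, p1, p2⟩ := (hy' u ((u2.mul u3).cast (by decide +kernel) (by decide +kernel))).1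
  obtain ⟨q, q1⟩ := tk ⟬360⟭ u3 (by decide +kernel)
  obtain ⟨s, s1⟩ := tk ⟬540⟭ u3 (by decide +kernel)
  refine ⟨μ, u, rfl, ⟨hμ, nz', ?_, u2, q1.cast rfl ?_, hy'⟩, Or.imp (s1.cast rfl) (s1.cast rfl) ?_⟩
  · rw [← p2, (by decide +kernel : ∀ p ∈ KS.D, p * ⟬192⟭ * p⁻¹ = ⟬192⟭ → p = 1) p p1 ((Cj.of p _).uniq hμ (p2 ▸ u1.comp u1)), map_one]
  · exact (by decide +kernel : ∀ q, q * ⟬15⟭ = ⟬15⟭ * q → q * ⟬60⟭ = ⟬60⟭ * q → q * q = 1 → q ≠ 1 → q = ⟬360⟭) q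
      ((q1.mul u2).uniq hμ ((u2.mul q1).cast (by decide +kernel) rfl)) ((q1.mul u3).uniq hμ ((u3.mul q1).cast (by decide +kernel) rfl))
      ((q1.mul q1).uniq hμ (Cj.one.cast (by decide +kernel) rfl)) fun e => absurd ((e ▸ q1).symm.uniq hμ .one) (by decide +kernel)
  · exact (by decide +kernel : ∀ q, q * ⟬15⟭ = ⟬15⟭⁻¹ * q → q * ⟬60⟭ = ⟬60⟭ * q → q * ⟬192⟭ = ⟬192⟭ * q → q = ⟬372⟭ ∨ q = ⟬12⟭) s
      ((s1.mul u2).uniq hμ ((u2.inv.mul s1).cast (by decide +kernel) rfl)) ((s1.mul u3).uniq hμ ((u3.mul s1).cast (by decide +kernel) rfl))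
      ((s1.mul u1).uniq hμ ((u1.mul s1).cast (by decide +kernel) rfl))

end Cfsg.Lib.S8L
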