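import Cfsg.Agent.Lib.S8L.Cs
import Cfsg.Agent.Lib.Linear.AutAlt

/-!
# The symmetric group of degree eight
-/

set_option maxRecDepth 100000
set_option synthInstance.maxSize 100000
set_option synthInstance.maxHeartbeats 200000
set_option Elab.async false

namespace Cfsg.Lib.S8L

open Subgroup Cfsg.Lib.X32 Cfsg.Lib.Transfer Cfsg.Lib.A8L Equiv

universe u

local notation "⟬" n "⟭" => KS.el n

variable {G : Type u} [Group G] [Finite G] {κ : KS →* G} {u : G}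

open KS in
/-- The subgroup `S₃ × S₃`. -/
abbrev N0 : Subgroup KS := lsg [el 0, el 15, el 24, el 60, el 75, el 84, el 120, el 135, el 144, el 183, el 192, el 207, el 243,
  el 252, el 267, el 303, el 312, el 327, el 363, el 372, el 387, el 423, el 432, el 447, el 483, el 492, el 507, el 540, el 555,
  el 564, el 600, el 615, el 624, el 660, el 675, el 684] (by decide +kernel)

namespace Cs

variable (h : Cs κ u)
include h

theorem nuk {k : KS} (c : k * ⟬360⟭ = ⟬360⟭ * k) (e : u * κ k * (u * κ k) = 1) {t : G} (hc : IsConj (u * κ k) t)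
    (tz : Cj κ t ⟬60⟭ ⟬60⟭) : False := by
  have c2 := (cjk κ (mul_inv_eq_iff_eq_mul.2 c)).comp h.ui
  rcases (by decide +kernel : ∀ k, k * ⟬360⟭ = ⟬360⟭ * k → k * ⟬60⟭ * k⁻¹ = ⟬60⟭ ∨ k * ⟬60⟭ * k⁻¹ = ⟬60⟭⁻¹) k c with a | a
  · exact nu ⟨h.inj, h.nz, e, (cjk κ a).comp h.uz, c2, h.hy⟩ hc tz
  · exact nu (u := κ ⟬372⟭ * (u * κ k) * (κ ⟬372⟭)⁻¹) ⟨h.inj, h.nz, by rw [conj_mul, e]; simp,
      (((cjk κ a).comp h.uz.inv).conj _).cast (by decide +kernel) (by decide +kernel),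
      (c2.conj _).cast (by decide +kernel) (by decide +kernel), h.hy⟩ ((isConj_iff.2 ⟨_, rfl⟩).symm.trans hc) tz

omit [Finite G] in
theorem sq4 {k : KS} (c : k * ⟬360⟭ = ⟬360⟭ * k) {g : G} (e : g = κ k ∨ g = u * κ k) :
    g * g * (g * g) ∈ KS.D.map κ ∧ ∀ d ∈ KS.D.map κ, g * d * g⁻¹ ∈ KS.D.map κ := by
  have s : ∀ k, k * ⟬360⟭ = ⟬360⟭ * k → k * k ∈ KS.D ∧ ∀ d ∈ KS.D, k * d * k⁻¹ ∈ KS.D := by decide +kernel
  rcases e with rfl | rfl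
  · refine ⟨mul_mem (map_mul κ _ _ ▸ mem_map_of_mem κ (s k c).1) (map_mul κ _ _ ▸ mem_map_of_mem κ (s k c).1), ?_⟩
    rintro _ ⟨d, hd, rfl⟩
    exact ⟨_, (s k c).2 d hd, Eq.symm (Cj.of k d)⟩
  · obtain ⟨l, l1, l2⟩ := h.uN c
    refine ⟨⟨_, (s (l * k) (by rw [mul_assoc, c, ← mul_assoc, l1, mul_assoc])).1, by
      rw [map_mul, map_mul, ← l2, h.iv]; group⟩, ?_⟩
    rintro _ ⟨d, hd, rfl⟩
    obtain ⟨e, e1, e2, -⟩ := h.uD ((s k c).2 d hd)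
    exact ⟨e, e1, Eq.symm ((Cj.of k d).comp e2)⟩

theorem caseB (ha : Cj κ u ⟬540⟭ ⟬372⟭)
    (hB : ∀ g, Cj κ g ⟬360⟭ ⟬360⟭ → ∃ k, k * ⟬360⟭ = ⟬360⟭ * k ∧ (g = κ k ∨ g = u * κ k)) : ∃ s : G →* ℤˣ, s (κ ⟬360⟭) = -1 := by
  have ii : κ ⟬360⟭ * κ ⟬360⟭ = 1 := by rw [← map_mul, h.one]; decide +kernel
  have fi : ¬ IsConj (κ ⟬360⟭) (κ ⟬12⟭) := fun c => (isConj_iff.1 c).elim fun _ => h.fi
  have uu : ∀ x, u * (u * x) = x := fun x => by rw [← mul_assoc, h.uu, one_mul]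
  refine trc (M := ext2 (N0.map κ) u h.uu ?_) ii ?_ (fun g c => ?_) fun j c d => ?_
  · rintro _ ⟨k, hk, rfl⟩
    obtain ⟨i, -, j, -, p, -, q, -, rfl, c⟩ := (by decide +kernel : ∀ k ∈ N0, ∃ i < 3, ∃ j < 3, ∃ p < 2, ∃ q < 2,
      k = ⟬60⟭ ^ i * ⟬15⟭ ^ j * ⟬540⟭ ^ p * ⟬372⟭ ^ q ∧ ⟬15⟭ ^ i * ⟬60⟭ ^ j * ⟬372⟭ ^ p * ⟬540⟭ ^ q ∈ N0) k hk
    exact ⟨_, c, by
      rw [← (((Cj.pow' h.uz i).mul (Cj.pow' (h.sy h.uz) j)).mul (Cj.pow' ha p)).mul (Cj.pow' (h.sy ha) q), h.iv]⟩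
  · rintro (⟨k, hk, e⟩ | ⟨k, -, e⟩)
    · exact absurd (h.inj e ▸ hk : ⟬360⟭ ∈ N0) (by decide +kernel)
    · exact h.uk (k * ⟬360⟭) (by rw [map_mul, e, mul_assoc, ii, mul_one])
  · obtain ⟨k, k1, e⟩ := hB g (.of_comm c)
    rcases (by decide +kernel : ∀ k, k * ⟬360⟭ = ⟬360⟭ * k → k ∈ N0 ∨ ⟬360⟭ * k ∈ N0) k k1 with a | a <;> rcases e with rfl | rfl
    exacts [.inl (.inl ⟨k, a, rfl⟩), .inl (.inr ⟨k, a, (uu _).symm⟩), .inr (.inl ⟨_, a, map_mul κ _ _⟩),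
      .inr (.inr ⟨_, a, by rw [← mul_assoc (κ _), ← h.ui.comm, mul_assoc, uu, map_mul]⟩)]
  obtain ⟨g, hg⟩ := isConj_iff.1 c
  have jj : j * j = 1 := by rw [← hg, conj_mul, ii]; simp
  obtain ⟨k, k1, rfl | rfl⟩ := hB j (.of_comm d)
  swap
  · exact (h.nuk k1 jj c.symm (cjk κ (by decide +kernel))).elim
  rcases (by decide +kernel : ∀ k, k * ⟬360⟭ = ⟬360⟭ * k → k * k = 1 → k = ⟬360⟭ ∨ k ∈ N0 ∨ ∃ d ∈ KS.D, d * k * d⁻¹ = ⟬12⟭ ∨
    d * k * d⁻¹ = ⟬540⟭ * ⟬360⟭ ∨ d * k * d⁻¹ = ⟬552⟭) k k1 (h.one.1 (map_mul κ _ _ ▸ jj)) with rfl | a | ⟨d, -, a | a | a⟩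
  · exact .inl rfl
  · exact .inr (.inl ⟨k, a, rfl⟩)
  · exact (fi (c.trans (cjk κ a).isConj)).elim
  · exact (fi ((c.trans (cjk κ a).isConj).trans ((ha.mul h.ui).cast rfl (by decide +kernel)).isConj)).elim
  have e : Cj κ (κ d * g) ⟬360⟭ ⟬552⟭ := Cj.comp hg (cjk κ a)
  generalize κ d * g = g at e
  have r1 : Cj κ (u * κ ⟬47⟭) ⟬540⟭ ⟬372⟭ := (cjk κ (by decide +kernel)).comp ha
  have r2 : Cj κ (u * κ ⟬47⟭) ⟬372⟭ ⟬360⟭ := (cjk κ (by decide +kernel)).comp h.ui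
  have r3 : Cj κ (u * κ ⟬47⟭) ⟬360⟭ ⟬540⟭ := (cjk κ (by decide +kernel)).comp (h.sy ha)
  have r4 := ((r1.mul r2).mul r3).cast (p' := ⟬552⟭) (q' := ⟬552⟭) (by decide +kernel) (by decide +kernel)
  have r5 := ((r1.comp r2).comp r3).comp r1
  generalize u * κ ⟬47⟭ = r at r4 r5
  obtain ⟨p, p1, p2⟩ := hB _ ((e.comp r4).comp e.symm)
  obtain ⟨q, q1, q2⟩ := hB _ ((e.comp (cjk κ (k := ⟬540⟭) (by decide +kernel))).comp e.symm)
  have := mul_mem (h.sq4 p1 p2).1 ((h.sq4 q1 q2).2 _ (inv_mem (h.sq4 p1 p2).1))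
  rw [show _ * _ = g⁻¹ * κ (⟬372⟭ * ⟬540⟭⁻¹) * g⁻¹⁻¹ by rw [map_mul, map_inv, ← r5]; group] at this
  have := h.D2 this (by rw [conj_mul, ← map_mul, conj_eq_one_iff, h.one]; decide +kernel)
  rw [conj_eq_one_iff, h.one] at this
  exact absurd this (by decide +kernel)

theorem sym8 (ha : Cj κ u ⟬540⟭ ⟬372⟭) {s : G →* ℤˣ} (hs : s (κ ⟬360⟭) = -1) (hS : SylowIn 3 (KS.D.map κ) ⊤) :
    Nonempty (G ≃* Perm (Fin 8)) := by
  wlog hu : s u = 1 generalizing u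
  · exact this h.swi ((cjk κ (by decide +kernel)).comp ha) (by rw [map_mul, hs, (Int.units_eq_one_or _).resolve_left hu]; rfl)
  have sc : ∀ {g p q}, Cj κ g p q → s (κ q) = s (κ p) := fun c => by rw [← c, map_mul, map_mul, map_inv, mul_inv_cancel_comm]
  have s1 : s (κ ⟬180⟭) = 1 := by
    rw [show ⟬180⟭ = ⟬540⟭ * ⟬360⟭ by decide +kernel, map_mul, map_mul, ← sc ha, ← sc (cjk κ (k := ⟬47⟭) (q := ⟬360⟭) (by decide +kernel)),
      Int.units_mul_self]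
  have mK : ∀ k : KM, (κ.comp Ex.inl) k ∈ s.ker := fun k => by
    obtain ⟨p, -, e | e⟩ := (by decide +kernel : ∀ k : KM, ∃ p ∈ [1, ⟬15⟭, ⟬4⟭], (Ex.inl k * (p * p)) ^ 15 = 1 ∨
      (Ex.inl k * ⟬180⟭ * (p * p)) ^ 15 = 1) k <;> have := congrArg (fun x => s (κ x)) e <;>
      simp only [map_mul, map_pow, Int.units_mul_self, s1, mul_one, map_one] at this <;>
      exact (Int.units_eq_one_or _).resolve_right fun c => absurd ((show s (κ _) = _ from c) ▸ this) (by decide)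
  have nK : ∀ k, s (κ k) = 1 → ∃ l, Ex.inl l = k := by
    rintro ⟨l, _ | _⟩ e
    · exact ⟨l, rfl⟩
    · rw [show (⟨l, true⟩ : KS) = Ex.inl l * ⟬360⟭ from Ex.ext' (mul_one l).symm rfl, map_mul, map_mul, hs,
        show s (κ (Ex.inl l)) = 1 from mK l] at e
      exact absurd e (by decide)
  have ix : s.ker.index = 2 := by
    rw [index_ker, MonoidHom.range_eq_top.2 fun v => by
      rcases Int.units_eq_one_or v with rfl | rfl
      exacts [⟨1, map_one _⟩, ⟨_, hs⟩]]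
    simp
  have cG := s.ker.card_mul_index
  rcases Cf.main (κ := (κ.comp Ex.inl).codRestrict _ mK) (u := ⟨u, hu⟩)
    ⟨fun a b e => congrArg Ex.k (h.inj (congrArg Subtype.val e)), fun g e => by
      obtain ⟨k, hk⟩ := h.nz g (e.imp (congrArg Subtype.val) (congrArg Subtype.val))
      obtain ⟨l, rfl⟩ := nK k (hk ▸ g.2)
      exact ⟨l, Subtype.ext hk⟩, Subtype.ext h.uu, Subtype.ext h.uz,
      Subtype.ext ((ha.mul h.ui).cast (p' := ⟬180⟭) (q' := ⟬12⟭) (by decide +kernel) (by decide +kernel)), fun g e => by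
        have e : Cj κ g ⟬75⟭ ⟬75⟭ := .of_comm (congrArg Subtype.val e)
        have c : ∀ l : KM, Ex.inl l * ⟬360⟭ = ⟬360⟭ * Ex.inl l → Ex.inl l * ⟬75⟭ * (Ex.inl l)⁻¹ = ⟬75⟭ → l ∈ KM.D := by decide +kernel
        obtain ⟨k, k1, a | a⟩ := h.nD (h.hy g e).2
        · obtain ⟨l, rfl⟩ := nK k (a ▸ g.2)
          exact ⟨l, c l k1 (h.eq (a ▸ e)), .inl (Subtype.ext a)⟩
        · obtain ⟨p, p1, p2⟩ := h.uN k1
          have b : g.1 = κ p * u := by rw [a, eq_mul_of_mul_inv_eq p2]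
          obtain ⟨l, rfl⟩ := nK p (by have := g.2; rwa [b, MonoidHom.mem_ker, map_mul, hu, mul_one] at this)
          exact ⟨l, c l p1 (h.eq ((h.uy.comp e).cast' (by rw [b, mul_assoc, h.uu, mul_one]))), .inr (Subtype.ext b)⟩⟩
    with ⟨⟨e⟩⟩ | ⟨⟨e⟩⟩
  · let ε := (MulAut.congr e).trans (MulEquiv.ofBijective _ (Linear.conjNormal_alt_bijective (α := Fin 8) (by simp) (by simp))).symm
    let f := ε.toMonoidHom.comp MulAut.conjNormal
    refine ⟨MulEquiv.ofBijective f ((Nat.bijective_iff_injective_and_card f).2 ⟨(injective_iff_map_eq_one _).2 fun g e' => ?_, ?_⟩)⟩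
    · have e : MulAut.conjNormal g = 1 := (map_eq_one_iff ε ε.injective).1 e'
      have c : ∀ l : KM, Cj κ g (Ex.inl l) (Ex.inl l) := fun l => congrArg (fun x : MulAut s.ker => (x ⟨_, mK l⟩).1) e
      obtain ⟨k, rfl⟩ := h.cen (c (.el 60))
      exact h.one.2 ((by decide +kernel : ∀ k : KS, (∀ l ∈ [15, 12, 47, 60, 180], k * Ex.inl (.el l) * k⁻¹ = Ex.inl (.el l)) → k = 1) k
        fun l _ => h.eq (c _))
    · rw [← cG, ix, Nat.card_congr e.toEquiv, mul_comm, two_mul_nat_card_alternatingGroup]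
  · have c := two_mul_nat_card_alternatingGroup (α := Fin 9)
    have := card_mul_relIndex hS.1
    rw [card_map_of_injective h.inj, card_lsg _ _ (by decide +kernel), card_top, ← cG, ix, Nat.card_congr e.toEquiv, mul_comm _ 2, c,
      Nat.card_perm, Nat.card_eq_fintype_card (α := Fin 9), Fintype.card_fin] at this
    exact (hS.3 (by simp only [List.length_cons, List.length_nil, Nat.factorial] at this; omega)).elim

end Cs

end Cfsg.Lib.S8L
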