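import Cfsg.Agent.Lib.S8L.KS
import Cfsg.Agent.Lib.Invol.Transfer2

/-!
# The `3`-local configuration of `S₈`
-/

set_option maxRecDepth 100000
set_option synthInstance.maxSize 100000
set_option synthInstance.maxHeartbeats 200000
set_option Elab.async false

namespace Cfsg.Lib.S8L

open Subgroup Cfsg.Lib.X32 Cfsg.Lib.Transfer Cfsg.Lib.A8L

universe u

local notation "⟬" n "⟭" => KS.el n

local instance : Fact (Nat.Prime 2) := ⟨Nat.prime_two⟩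
local instance : Fact (Nat.Prime 3) := ⟨Nat.prime_three⟩

variable {G : Type u} [Group G]

theorem trc [Finite G] {i : G} {M : Subgroup G} (ii : i * i = 1) (h0 : i ∉ M) (h1 : ∀ h, h * i = i * h → h ∈ M ∨ i * h ∈ M)
    (h2 : ∀ j, IsConj i j → j * i = i * j → j = i ∨ j ∈ M) : ∃ s : G →* ℤˣ, s i = -1 := by
  classical
  have iH : i ∈ centralizer {i} := mem_centralizer_singleton_iff.2 rfl
  obtain ⟨φ, hφ⟩ := Invol.exists_sign_hom (H := centralizer {i}) (M := M) (index_eq_two_iff'.2 ⟨⟨i, iH⟩, fun b => by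
    rcases h1 b (mem_centralizer_singleton_iff.1 b.2) with e | e
    exacts [.inr ⟨e, fun c => h0 ((M.mul_mem_cancel_right e).1 c)⟩, .inl ⟨e, fun c => h0 ((M.mul_mem_cancel_right c).1 e)⟩]⟩)
  have : Fintype (Quotient (MulAction.orbitRel (zpowers i) (G ⧸ centralizer {i}))) := Fintype.ofFinite _
  refine ⟨MonoidHom.transfer φ, ?_⟩
  have fx : i • ((1 : G) : G ⧸ centralizer {i}) = (1 : G) := QuotientGroup.eq.2 (by simpa using iH)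
  rw [MonoidHom.transfer_eq_prod_quotient_orbitRel_zpowers_quot, Finset.prod_eq_single ⟦((1 : G) : G ⧸ centralizer {i})⟧
    (fun q _ hq => ?_) (by simp)]
  · generalize_proofs p1 p2
    have e : (⟦((1 : G) : G ⧸ centralizer {i})⟧ : Quotient (MulAction.orbitRel (zpowers i) (G ⧸ centralizer {i}))).out = (1 : G) := by
      obtain ⟨⟨_, k, rfl⟩, hk⟩ := Quotient.mk_out (s := MulAction.orbitRel (zpowers i) (G ⧸ centralizer {i})) (1 : G)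
      exact hk.symm.trans (MulAction.mem_stabilizer_iff.1 (zpow_mem (MulAction.mem_stabilizer_iff.2 fx) k))
    refine (Int.units_eq_one_or _).resolve_left fun c => h0 ?_
    have c := (hφ _).1 c
    have m := mem_centralizer_singleton_iff.1 (QuotientGroup.eq.1 (QuotientGroup.out_eq' ((1 : G) : G ⧸ centralizer {i})))
    simp only [e, Function.minimalPeriod_eq_one_iff_isFixedPt.2 fx, pow_one, mul_one] at c m
    rwa [m, inv_mul_cancel_right] at c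
  · refine (hφ _).2 ?_
    have m := mem_centralizer_singleton_iff.1 (QuotientGroup.out_conj_pow_minimalPeriod_mem (centralizer {i}) i q.out)
    rcases (Nat.dvd_prime Nat.prime_two).1 ((MulAction.pow_smul_eq_iff_minimalPeriod_dvd (a := i) (b := q.out)).1
      (by rw [pow_two, ii, one_smul])) with e | e <;> simp only [e, pow_one, pow_two, ii, mul_one, inv_mul_cancel, one_mem] at m ⊢
    refine (h2 _ (isConj_iff.2 ⟨_, by rw [inv_inv]⟩) m).resolve_left fun c => hq ?_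
    rw [← q.out_eq, ← q.out.out_eq]
    exact congrArg _ (QuotientGroup.eq.2 (mem_centralizer_singleton_iff.2 (by rw [mul_one]; exact mul_inv_eq_iff_eq_mul.1 (by simpa using c))))

variable {κ : KS →* G} {u : G}

/-- The configuration. -/
structure Cs (κ : KS →* G) (u : G) : Prop where
  inj : Function.Injective κ
  nz : ∀ g, Cj κ g ⟬60⟭ ⟬60⟭ ∨ Cj κ g ⟬60⟭ ⟬120⟭ → ∃ k, κ k = g
  uu : u * u = 1
  uz : Cj κ u ⟬60⟭ ⟬15⟭
  ui : Cj κ u ⟬360⟭ ⟬360⟭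
  hy : ∀ g, Cj κ g ⟬75⟭ ⟬75⟭ → g * g ∈ KS.D.map κ ∧ ∀ d ∈ KS.D, ∃ e ∈ KS.D, Cj κ g d e

theorem cjk {M : Type} [Group M] (φ : M →* G) {k p q : M} (h : k * p * k⁻¹ = q) : Cj φ (φ k) p q := (Cj.of k p).cast rfl h

namespace Cs

variable (h : Cs κ u)
include h

theorem iv : u⁻¹ = u := inv_eq_of_mul_eq_one_right h.uu

theorem sy {p q : KS} (e : Cj κ u p q) : Cj κ u q p := e.symm.cast' h.iv

theorem cen {g : G} (e : Cj κ g ⟬60⟭ ⟬60⟭) : ∃ k, κ k = g := h.nz g (.inl e)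

theorem eq {k p q : KS} (e : Cj κ (κ k) p q) : k * p * k⁻¹ = q := (Cj.of k p).uniq h.inj e

theorem ne {p q : KS} (e : p ≠ q) : κ p ≠ κ q := fun c => e (h.inj c)

theorem one {p : KS} : κ p = 1 ↔ p = 1 := map_eq_one_iff κ h.inj

theorem uy : Cj κ u ⟬75⟭ ⟬75⟭ := (h.uz.mul (h.sy h.uz)).cast (by decide +kernel) (by decide +kernel)

theorem uD {d : KS} (hd : d ∈ KS.D) : ∃ e ∈ KS.D, Cj κ u d e ∧ (d = e → d = 1 ∨ d = ⟬75⟭ ∨ d = ⟬75⟭⁻¹) := by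
  obtain ⟨i, -, j, -, rfl, e⟩ := (by decide +kernel : ∀ d ∈ KS.D, ∃ i < 3, ∃ j < 3, d = ⟬60⟭ ^ i * ⟬15⟭ ^ j ∧
    ⟬15⟭ ^ i * ⟬60⟭ ^ j ∈ KS.D ∧ (d = ⟬15⟭ ^ i * ⟬60⟭ ^ j → d = 1 ∨ d = ⟬75⟭ ∨ d = ⟬75⟭⁻¹)) d hd
  exact ⟨_, e.1, (Cj.pow' h.uz i).mul (Cj.pow' (h.sy h.uz) j), e.2⟩

theorem D2 {g : G} (hg : g ∈ KS.D.map κ) (e : g * g = 1) : g = 1 := by
  obtain ⟨d, hd, rfl⟩ := hg
  exact h.one.2 ((by decide +kernel : ∀ d ∈ KS.D, d * d = 1 → d = 1) d hd (h.one.1 (map_mul κ _ _ ▸ e)))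

theorem nzy {g : G} (e : Cj κ g ⟬60⟭ ⟬75⟭) : False := by
  have := h.D2 (h.hy _ ((e.symm.comp (cjk κ (k := ⟬376⟭) (by decide +kernel))).comp e)).1 (by
    rw [← mul_assoc g, conj_mul, conj_mul, ← map_mul, ← map_mul, conj_eq_one_iff, h.one]; decide +kernel)
  rw [← mul_assoc g, conj_mul, conj_eq_one_iff, ← map_mul, h.one] at this
  exact absurd this (by decide +kernel)

theorem nzD {g : G} {d : KS} (e : Cj κ g ⟬60⟭ d) (hd : d ∈ KS.D) : (d = ⟬60⟭ ∨ d = ⟬120⟭) ∨ d = ⟬15⟭ ∨ d = ⟬24⟭ := by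
  rcases (by decide +kernel : ∀ d ∈ KS.D, d = 1 ∨ (∃ k ∈ [1, ⟬12⟭, ⟬180⟭, ⟬192⟭], k * d * k⁻¹ = ⟬75⟭) ∨
    (d = ⟬60⟭ ∨ d = ⟬120⟭) ∨ d = ⟬15⟭ ∨ d = ⟬24⟭) d hd with rfl | ⟨k, -, c⟩ | c
  exacts [absurd (e.symm.uniq h.inj .one) (by decide +kernel), (h.nzy (e.comp (cjk κ c))).elim, c]

theorem nD {g : G} (e : ∀ d ∈ KS.D, ∃ e ∈ KS.D, Cj κ g d e) :
    ∃ k, k * ⟬360⟭ = ⟬360⟭ * k ∧ (g = κ k ∨ g = u * κ k) := by
  have c : ∀ k, k * ⟬15⟭ * k⁻¹ ∈ KS.D → k * ⟬360⟭ = ⟬360⟭ * k := by decide +kernel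
  obtain ⟨p, p1, p2⟩ := e ⟬60⟭ (by decide +kernel)
  obtain ⟨q, q1, q2⟩ := e ⟬15⟭ (by decide +kernel)
  rcases h.nzD p2 p1 with a | a
  · obtain ⟨k, rfl⟩ := h.nz g (a.imp (p2.cast rfl) (p2.cast rfl))
    exact ⟨k, c k (h.eq q2 ▸ q1), .inl rfl⟩
  · obtain ⟨k, hk⟩ := h.nz (u * g) (a.imp (fun a => (p2.cast rfl a).comp (h.sy h.uz)) fun a =>
      (p2.cast rfl a).comp ((h.sy h.uz).inv.cast (by decide +kernel) (by decide +kernel)))
    obtain ⟨r, r1, r2, -⟩ := h.uD q1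
    exact ⟨k, c k (h.eq (hk ▸ q2.comp r2) ▸ r1), .inr (by rw [hk, ← mul_assoc, h.uu, one_mul])⟩

theorem uN {k : KS} (e : k * ⟬360⟭ = ⟬360⟭ * k) : ∃ l, l * ⟬360⟭ = ⟬360⟭ * l ∧ Cj κ u k l := by
  obtain ⟨l, hl⟩ := h.nz (u * (κ k * u)) (((by decide +kernel : ∀ k, k * ⟬360⟭ = ⟬360⟭ * k → k * ⟬15⟭ * k⁻¹ = ⟬15⟭ ∨
    k * ⟬15⟭ * k⁻¹ = ⟬24⟭) k e).imp (fun a => (h.uz.comp (cjk κ a)).comp (h.sy h.uz)) fun a =>
      (h.uz.comp (cjk κ a)).comp ((h.sy h.uz).inv.cast (by decide +kernel) (by decide +kernel)))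
  exact ⟨l, mul_inv_eq_iff_eq_mul.1 (h.eq (hl ▸ (h.ui.comp (cjk κ (mul_inv_eq_iff_eq_mul.2 e))).comp h.ui)),
    by rw [Cj, hl, h.iv, mul_assoc]⟩

theorem sw {k : KS} (c : k * ⟬60⟭ * k⁻¹ = ⟬60⟭ ∧ k * ⟬360⟭ * k⁻¹ = ⟬360⟭) (e : u * κ k * (u * κ k) = 1) : Cs κ (u * κ k) :=
  ⟨h.inj, h.nz, e, (cjk κ c.1).comp h.uz, (cjk κ c.2).comp h.ui, h.hy⟩

theorem swi : Cs κ (u * κ ⟬360⟭) := h.sw (by decide +kernel) (by
  nth_rewrite 1 [h.ui.comm]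
  rw [mul_assoc, ← mul_assoc u, h.uu, one_mul, ← map_mul, h.one]; decide +kernel)

theorem uk (k : KS) : u ≠ κ k := fun e =>
  (by decide +kernel : ∀ k, k * ⟬60⟭ * k⁻¹ ≠ ⟬15⟭) k (h.eq (e ▸ h.uz))

variable [Finite G]

theorem nu {t : G} (hc : IsConj u t) (tz : Cj κ t ⟬60⟭ ⟬60⟭) : False := by
  obtain ⟨g, hg⟩ := isConj_iff.1 hc
  have y3 : κ ⟬75⟭ ^ 3 = 1 := by rw [← map_pow, h.one]; decide +kernel
  have y1 : κ ⟬75⟭ ≠ 1 := fun e => absurd (h.one.1 e) (by decide +kernel)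
  have hS : SylowIn 3 (zpowers (κ ⟬75⟭)) (centralizer {u}) := syl_of (pzp y3) (zpowers_le.2 (mem_centralizer_singleton_iff.2
    h.uy.comm.symm)) fun n h1 h2 h3 => by
    obtain ⟨k, hk⟩ := h3 1 (one_mem _)
    rw [one_mul] at hk
    have : n * n * κ ⟬75⟭ * (n * n)⁻¹ = κ ⟬75⟭ := by
      rw [mul_inv_rev, mul_assoc n n, ← mul_assoc, mul_assoc n]
      rcases zp3 y3 (conj_mem_of_mem_normalizer h2 (mem_zpowers _)) with e | e | e
      exacts [absurd (conj_eq_one_iff.1 e) y1, by rw [e, e], by rw [e, conj_inv.symm, e, inv_inv]]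
    obtain ⟨d, hd, rfl⟩ := mem_of_pow_mem_of_coprime (n := 4) (cop hk (by decide))
      ((by simp only [pow_succ, pow_zero, one_mul, mul_assoc] : n * n * (n * n) = n ^ 4) ▸ (h.hy _ this).1)
    obtain ⟨q, -, e1, e2⟩ := h.uD hd
    rcases e2 ((Cj.of_comm (mem_centralizer_singleton_iff.1 h1).symm).uniq h.inj e1) with rfl | rfl | rfl
    exacts [map_one κ ▸ one_mem _, mem_zpowers _, map_inv κ _ ▸ inv_mem (mem_zpowers _)]
  have z3 : (g⁻¹ * κ ⟬60⟭ * g⁻¹⁻¹) ^ 3 = 1 := by rw [conj_pow, ← map_pow, show ⟬60⟭ ^ 3 = 1 by decide +kernel]; simp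
  obtain ⟨k, -, hk⟩ := hS.exists_cj_le (pzp z3) (zpowers_le.2 (mem_centralizer_singleton_iff.2 (by
    rw [(by rw [← hg]; group : u = g⁻¹ * t * g⁻¹⁻¹), conj_mul, conj_mul, tz.comm])))
  have e : k * g⁻¹ * κ ⟬60⟭ * (k * g⁻¹)⁻¹ = k * (g⁻¹ * κ ⟬60⟭ * g⁻¹⁻¹) * k⁻¹ := by group
  rcases zp3 y3 (hk (conj_mem_cj.2 (mem_zpowers _))) with e' | e' | e'
  · exact absurd (h.one.1 (conj_eq_one_iff.1 (e.trans e'))) (by decide +kernel)
  · exact h.nzy (e.trans e')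
  · exact h.nzy ((Cj.comp (q := ⟬75⟭⁻¹) (e.trans (e'.trans (map_inv κ _).symm)) (.of ⟬192⟭ _)).cast rfl (by decide +kernel))

theorem fi {g : G} (hg : Cj κ g ⟬360⟭ ⟬12⟭) : False := by
  have z3 : κ ⟬60⟭ ^ 3 = 1 := by rw [← map_pow, h.one]; decide +kernel
  have hS : SylowIn 3 (zpowers (κ ⟬60⟭)) (centralizer {κ ⟬12⟭}) := syl_of (pzp z3) (zpowers_le.2 (mem_cen (by decide +kernel)))
    fun n h1 h2 h3 => by
      obtain ⟨k, rfl⟩ := h.nz n (by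
        rcases zp3 z3 (conj_mem_of_mem_normalizer h2 (mem_zpowers _)) with e | e | e
        exacts [absurd (h.one.1 (conj_eq_one_iff.1 e)) (by decide +kernel), .inl e, .inr (e.trans (map_inv κ _).symm)])
      obtain ⟨j, hj⟩ := h3 1 (one_mem _)
      refine mem_of_pow_mem_of_coprime (n := 4) (cop (one_mul (κ k) ▸ hj) (by decide)) ?_
      rw [← map_pow]
      rcases (by decide +kernel : ∀ k, k * ⟬12⟭ * k⁻¹ = ⟬12⟭ → k ^ 4 = 1 ∨ k ^ 4 = ⟬60⟭ ∨ k ^ 4 = ⟬60⟭⁻¹) k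
        (h.eq (.of_comm (mem_centralizer_singleton_iff.1 h1))) with e | e | e <;> rw [e]
      exacts [map_one κ ▸ one_mem _, mem_zpowers _, map_inv κ _ ▸ inv_mem (mem_zpowers _)]
  have := Nat.le_of_dvd three_pos (orderOf_dvd_of_pow_eq_one z3)
  have c := hS.card_le (Q := cj g (KS.D.map κ)) (isPGroup_cj g (IsPGroup.map (fun a => ⟨1, Subtype.ext
    ((by decide +kernel : ∀ a ∈ KS.D, a ^ 3 ^ 1 = 1) a a.2)⟩) κ)) (cj_le_iff.2 (by
      rintro _ ⟨d, hd, rfl⟩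
      rw [mem_centralizer_singleton_iff, ← hg, conj_mul, conj_mul, ← map_mul, ← map_mul,
        (by decide +kernel : ∀ d ∈ KS.D, d * ⟬360⟭ = ⟬360⟭ * d) d hd]))
  rw [card_cj, card_map_of_injective h.inj, card_lsg _ _ (by decide +kernel), Nat.card_zpowers] at c
  simp only [List.length_cons, List.length_nil] at c
  omega

end Cs

end Cfsg.Lib.S8L
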