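import Cfsg.Agent.Lib.S8L.WM
import Cfsg.Agent.Lib.Transfer.Apps

/-!
# The exceptional configuration: Sylow `2`-subgroups
-/

set_option maxRecDepth 100000
set_option synthInstance.maxSize 100000
set_option synthInstance.maxHeartbeats 200000
set_option Elab.async false

namespace Cfsg.Lib.S8L

open Subgroup Cfsg.Lib.X32 Cfsg.Lib.Transfer Cfsg.Lib.A8L Cfsg.Lib.JR WM

universe u

local notation "⦅" n "⦆" => KM.ea n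
local notation "⟪" p "," q "," e "," f "⟫" => WM.el p q e f

local instance factExc : Fact (Nat.Prime 2) := ⟨Nat.prime_two⟩

variable {G : Type u} [Group G] {Φ : WM →* G}

theorem oddA {f : A60 →* G} {K : Subgroup G} (h : ∀ n, f n ∈ K) (n : A60) : f n ∈ resOf 2 K := by
  have k : ∀ n : A60, n ^ 15 ^ 1 = 1 → f n ∈ resOf 2 K := fun n e =>
    mem_resOf (h n) (cop (p := 15) (k := 1) (by rw [← map_pow, e, map_one]) (by decide))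
  obtain ⟨b, -, e1, e2⟩ := (by decide +kernel : ∀ n : A60, ∃ b ∈ [1, ⦅15⦆, ⦅4⦆], b ^ 15 ^ 1 = 1 ∧ (n * b⁻¹) ^ 15 ^ 1 = 1) n
  simpa using mul_mem (k _ e2) (k _ e1)

/-- The first factor. -/
def j1 : A60 →* WM := Ex.inl.comp (Ex.inl.comp (.inl _ _))
/-- The second factor. -/
def j2 : A60 →* WM := Ex.inl.comp (Ex.inl.comp (.inr _ _))

theorem dN {x : WM} (hx : x ∈ N) : x = j1 x.k.k.1 * j2 x.k.k.2 := by
  obtain ⟨⟨⟨p, q⟩, _⟩, _⟩ := x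
  obtain ⟨rfl, rfl⟩ := hx
  exact Ex.ext' (Ex.ext' (Prod.ext (mul_one p).symm (one_mul q).symm) rfl) rfl

/-- The exceptional configuration. -/
structure Cw (Φ : WM →* G) : Prop where
  inj : Function.Injective Φ
  ci : ∀ g, Cj Φ g ⟪0,0,1,0⟫ ⟪0,0,1,0⟫ → ∃ t ∈ T, ∃ p ∈ Z, ∃ q ∈ Z, g = Φ (t * .mk p q false false)
  cz : ∀ g, Cj Φ g ⟪15,0,0,0⟫ ⟪15,0,0,0⟫ → ∃ p ∈ Z, ∃ q e, g = Φ (.mk p q e false)
  fi : ¬ IsConj (Φ ⟪0,0,1,0⟫) (Φ ⟪0,12,0,0⟫)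
  nu : ∀ v ∈ [⟪0,0,0,1⟫, ⟪0,0,1,1⟫], ¬ IsConj (Φ v) (Φ ⟪0,0,1,0⟫) ∧ ¬ IsConj (Φ v) (Φ ⟪0,12,0,0⟫)

theorem Cs.cw [Finite G] {κ : KS →* G} {u : G} (h : Cs κ u) (ha : Cj κ u (.el 540) (.el 12))
    (hB : ∀ g, Cj κ g (.el 360) (.el 360) → ∃ k, k * .el 360 = .el 360 * k ∧ (g = κ k ∨ g = u * κ k)) : ∃ Φ : WM →* G, Cw Φ := by
  obtain ⟨Φ, h1, h2, h3, h4, h5, h6, h7⟩ := h.exists_phi ha hB
  refine ⟨Φ, h1, h6, h7, fun c => (isConj_iff.1 (h3 ▸ h5 ▸ c)).elim fun _ => h.fi, fun v hv => ?_⟩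
  simp only [List.mem_cons, List.not_mem_nil, or_false] at hv
  rw [h3, h5]
  rcases hv with rfl | rfl
  · exact h2 ▸ ⟨fun c => h.nu c (cjk κ (by decide +kernel)), fun c => h.nu c (cjk κ (by decide +kernel))⟩
  · rw [show ⟪0,0,1,1⟫ = ⟪0,0,0,1⟫ * ⟪0,0,1,0⟫ by decide +kernel, map_mul, h2, h3]
    exact ⟨fun c => h.swi.nu c (cjk κ (by decide +kernel)), fun c => h.swi.nu c (cjk κ (by decide +kernel))⟩

namespace Cw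

variable (h : Cw Φ)
include h

theorem eq {k p q : WM} (e : Cj Φ (Φ k) p q) : k * p * k⁻¹ = q := (Cj.of k p).uniq h.inj e

theorem sq {p q : WM} (e : IsConj (Φ p) (Φ q)) (c : p * p = 1 ∧ p ≠ 1) : q * q = 1 ∧ q ≠ 1 := by
  obtain ⟨g, e⟩ := isConj_iff.1 e
  exact ⟨(Cj.mul e e).uniq h.inj (Cj.one.cast c.1.symm rfl), fun d => c.2 ((Cj.symm (d ▸ e : Cj Φ g p 1)).uniq h.inj .one)⟩

theorem mi : ¬ IsConj (Φ ⟪12,12,0,0⟫) (Φ ⟪0,0,1,0⟫) := fun c => by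
  obtain ⟨g, c⟩ := isConj_iff.1 c
  obtain ⟨t, h1, p, h2, q, h3, e⟩ := h.ci _ (((Cj.symm c).comp (cjk Φ (k := ⟪12,0,0,1⟫) (by decide +kernel))).comp c)
  refine (by decide +kernel : ∀ t ∈ T, ∀ p ∈ Z, ∀ q ∈ Z, t * .mk p q false false * (t * .mk p q false false) ≠ ⟪0,0,1,0⟫)
    t h1 p h2 q h3 (h.inj ?_)
  rw [map_mul, ← e, ← c, ← mul_assoc g, conj_mul, ← map_mul, show ⟪12,0,0,1⟫ * ⟪12,0,0,1⟫ = ⟪12,12,0,0⟫ by decide +kernel]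

theorem icl {p : WM} (hp : p ∈ T) (c : IsConj (Φ ⟪0,0,1,0⟫) (Φ p)) : ∃ s ∈ T, s * p * s⁻¹ = ⟪0,0,1,0⟫ := by
  have e := h.sq c (by decide +kernel)
  rcases (by decide +kernel : ∀ t ∈ T, t * t = 1 → t ∈ N ∨ (∃ s ∈ T, s * t * s⁻¹ = ⟪0,0,1,0⟫) ∨
    ∃ s ∈ T, s * t * s⁻¹ ∈ [⟪0,0,0,1⟫, ⟪0,0,1,1⟫]) p hp e.1 with a | a | ⟨s, -, a⟩
  · rcases WM.inv a e.1 with a | ⟨s, a⟩ | ⟨s, -, a⟩
    exacts [absurd a e.2, (h.fi (c.trans (cjk Φ a).isConj)).elim, (h.mi (c.trans (cjk Φ a).isConj).symm).elim]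
  · exact a
  · exact ((h.nu _ a).1 (c.trans (Cj.of s p).isConj).symm).elim

variable [Finite G]

theorem syl : SylowIn 2 (T.map Φ) ⊤ := syl_of (pgrp (by decide +kernel)) le_top fun n _ h2 h3 => by
  obtain ⟨q, q1, q2⟩ := ncj h2 (p := ⟪0,0,1,0⟫) (by decide +kernel)
  obtain ⟨s, s1, s2⟩ := h.icl q1 q2.isConj
  obtain ⟨t, h1, p, p1, r, r1, e⟩ := h.ci _ (q2.comp (cjk Φ s2))
  obtain ⟨k, hk⟩ := h3 _ (mem_map_of_mem Φ (mul_mem (inv_mem h1) s1))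
  have c : Φ (t⁻¹ * s) * n = Φ (.mk p r false false) := by rw [map_mul, mul_assoc, e, ← map_mul, inv_mul_cancel_left]
  have := (cop (q := 3) hk (by decide)).eq_one_of_dvd (orderOf_dvd_of_pow_eq_one (by
    rw [c, ← map_pow, (by decide +kernel : ∀ p ∈ Z, ∀ q ∈ Z, WM.mk p q false false ^ 3 = 1) p p1 r r1, map_one]))
  exact (mul_mem_cancel_left (mem_map_of_mem Φ (mul_mem (inv_mem h1) s1))).1 (orderOf_eq_one_iff.1 this ▸ one_mem _)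

theorem nm {x : WM} (hx : x ∈ [⟪0,0,0,1⟫, ⟪0,0,1,1⟫, ⟪0,12,0,0⟫]) : ¬ IsConj (Φ x) (Φ ⟪12,12,0,0⟫) := fun c => by
  obtain ⟨g, c⟩ := isConj_iff.1 c
  have mT : ∀ t ∈ T, t * ⟪12,12,0,0⟫ = ⟪12,12,0,0⟫ * t := by decide +kernel
  obtain ⟨k, k1, p, p1, e⟩ := exists_cj (h.syl.mono (K := centralizer {Φ ⟪12,12,0,0⟫}) (by
    rintro _ ⟨t, ht, rfl⟩; exact mem_cen (mT t ht)) le_top) (a := g * Φ ⟪0,0,1,0⟫ * g⁻¹) (n := 1) (by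
      rw [mem_centralizer_singleton_iff, ← c, conj_mul, conj_mul, ← map_mul, ← map_mul,
        (by decide +kernel : ∀ x ∈ [⟪0,0,0,1⟫, ⟪0,0,1,1⟫, ⟪0,12,0,0⟫], ⟪0,0,1,0⟫ * x = x * ⟪0,0,1,0⟫) x hx])
    (by rw [conj_pow, ← map_pow, show ⟪0,0,1,0⟫ ^ 2 ^ 1 = 1 by decide +kernel]; simp)
  have e : Cj Φ (k * g) ⟪0,0,1,0⟫ p := by rw [Cj, ← e]; group
  obtain ⟨s, s1, s2⟩ := h.icl p1 e.isConj
  obtain ⟨t, h1, p, h2, q, h3, d⟩ := h.ci _ (e.comp (cjk Φ s2))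
  exact (by decide +kernel : ∀ x ∈ [⟪0,0,0,1⟫, ⟪0,0,1,1⟫, ⟪0,12,0,0⟫], ∀ t ∈ T, ∀ p ∈ Z, ∀ q ∈ Z,
    t * .mk p q false false * x * (t * .mk p q false false)⁻¹ ≠ ⟪12,12,0,0⟫) x hx t h1 p h2 q h3
    (h.eq (d ▸ (Cj.comp c (.of_comm (mem_centralizer_singleton_iff.1 k1))).comp (cjk Φ (mul_inv_eq_iff_eq_mul.2 (mT s s1)))))

omit h [Finite G] in
theorem NR {x : WM} (hx : x ∈ N) : Φ x ∈ resOf 2 ⊤ := by
  rw [dN hx, map_mul]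
  exact mul_mem (oddA (f := Φ.comp j1) (fun _ => mem_top _) _) (oddA (f := Φ.comp j2) (fun _ => mem_top _) _)

theorem TR {x : WM} (hx : x ∈ T) (e : Φ x ∈ resOf 2 ⊤) : x ∈ N := by
  have ni : Φ ⟪0,0,1,0⟫ ∉ resOf 2 ⊤ := fun c => by
    let M : Subgroup WM := T ⊓ (⟨⟨⟨{x | x.k.e = false}, by
      rintro ⟨⟨a, _⟩, _ | _⟩ ⟨⟨b, _⟩, _⟩ rfl rfl <;> rfl⟩, rfl⟩, by rintro ⟨⟨a, _⟩, _ | _⟩ rfl <;> rfl⟩ : Subgroup WM)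
    obtain ⟨g, -, p, p1, p2⟩ := tr2 h.syl (mem_map_of_mem Φ (by decide +kernel)) c (M := M.map Φ)
      (fun ⟨p, p1, p2⟩ => absurd (h.inj p2 ▸ p1.2 : ⟪0,0,1,0⟫.k.e = false) (by decide)) (by
        rintro _ ⟨a, ha, rfl⟩ _ ⟨b, hb, rfl⟩ - - h1 h2
        refine ⟨a * b, ⟨mul_mem ha hb, (by decide +kernel : ∀ a ∈ T, ∀ b ∈ T, a.k.e ≠ false → b.k.e ≠ false → (a * b).k.e = false)
          a ha b hb (fun e => h1 ⟨a, ⟨ha, e⟩, rfl⟩) fun e => h2 ⟨b, ⟨hb, e⟩, rfl⟩⟩, map_mul _ _ _⟩)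
      (by rw [← map_mul, ← map_one Φ]; exact congrArg Φ (by decide +kernel))
    obtain ⟨s, s1, s2⟩ := h.icl p1.1 (isConj_iff.2 ⟨g, p2.symm⟩)
    exact (by decide +kernel : ∀ s ∈ T, (s⁻¹ * ⟪0,0,1,0⟫ * s).k.e ≠ false) s s1 (by rw [← s2]; simpa [mul_assoc] using p1.2)
  have k : ∀ x ∈ T, Φ x ∈ resOf 2 ⊤ → x ∉ N → x.e = true := fun x hx e c => by
    rcases (by decide +kernel : ∀ x ∈ T, x ∈ N ∨ x.e = true ∨ x⁻¹ * ⟪0,0,1,0⟫ ∈ N) x hx with a | a | a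
    exacts [absurd a c, a, (ni (by simpa using mul_mem e (NR (Φ := Φ) a))).elim]
  by_contra c
  obtain ⟨v, v1, v2, v3, v4, v5⟩ := (by decide +kernel : ∀ x ∈ T, x.e = true → ∃ v ∈ [⟪0,0,0,1⟫, ⟪0,0,1,1⟫], x⁻¹ * v ∈ N ∧ v ∈ T ∧
    v ∉ N ∧ v * v = 1) x hx (k x hx e c)
  obtain ⟨g, -, p, p1, p2⟩ := tr2 h.syl (mem_map_of_mem Φ v3) (by simpa using mul_mem e (NR (Φ := Φ) v2)) (M := N.map Φ)
    (fun ⟨p, p1, p2⟩ => v4 (h.inj p2 ▸ p1)) (by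
      rintro _ ⟨a, ha, rfl⟩ _ ⟨b, hb, rfl⟩ h1 h2 h3 h4
      refine map_mul Φ _ _ ▸ mem_map_of_mem Φ (by_contra fun c => ?_)
      exact (by decide +kernel : ∀ a ∈ T, ∀ b ∈ T, a.e = true → b.e = true → (a * b).e ≠ true) a ha b hb
        (k a ha h1 fun c => h3 ⟨a, c, rfl⟩) (k b hb h2 fun c => h4 ⟨b, c, rfl⟩)
        (k _ (mul_mem ha hb) (map_mul Φ _ _ ▸ mul_mem h1 h2) c)) (by rw [← map_mul, v5, map_one])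
  have c : IsConj (Φ v) (Φ p) := isConj_iff.2 ⟨g, p2.symm⟩
  have e := h.sq c ⟨v5, fun e => v4 (e ▸ one_mem _)⟩
  rcases WM.inv p1 e.1 with a | ⟨s, a⟩ | ⟨s, -, a⟩
  exacts [e.2 a, (h.nu v v1).2 (c.trans (cjk Φ a).isConj),
    h.nm (List.mem_append_left [_] v1) (c.trans (cjk Φ a).isConj)]

theorem sylA : SylowIn 2 ((T ⊓ N).map Φ) (resOf 2 ⊤) := by
  convert h.syl.inf_resOf
  refine le_antisymm (le_inf (map_mono inf_le_left) ?_) ?_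
  · rintro _ ⟨x, hx, rfl⟩; exact NR hx.2
  · rintro _ ⟨⟨x, hx, rfl⟩, e⟩; exact ⟨x, ⟨hx, h.TR hx e⟩, rfl⟩

end Cw

end Cfsg.Lib.S8L
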