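import Cfsg.Agent.Lib.A8L.Init

/-!
# Extensions by an involutory automorphism; a table model of `S₃ × S₅`
-/

set_option maxRecDepth 100000
set_option Elab.async false

namespace Cfsg.Lib.S8L

open Cfsg.Lib.JR Cfsg.Lib.X32 Cfsg.Lib.A8L Equiv

/-- An involutory automorphism. -/
structure Iv (M : Type) [Group M] where
  /-- The map. -/
  f : M → M
  mul : ∀ a b, f (a * b) = f a * f b
  ff : ∀ a, f (f a) = a

variable {M : Type} [Group M] {G : Type*} [Group G]

/-- The extension by an involutory automorphism. -/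
structure Ex (θ : Iv M) : Type where
  /-- The first component. -/
  k : M
  /-- The second component. -/
  e : Bool

namespace Ex

variable {θ : Iv M}

theorem ext' {a b : Ex θ} (h1 : a.k = b.k) (h2 : a.e = b.e) : a = b := by cases a; cases b; congr

instance [DecidableEq M] : DecidableEq (Ex θ) := fun a b =>
  decidable_of_iff (a.e = b.e ∧ a.k = b.k) ⟨fun h => ext' h.2 h.1, fun h => h ▸ ⟨rfl, rfl⟩⟩

instance : Mul (Ex θ) := ⟨fun a b => ⟨a.k * cond a.e (θ.f b.k) b.k, xor a.e b.e⟩⟩
instance : Inv (Ex θ) := ⟨fun a => ⟨cond a.e (θ.f a.k⁻¹) a.k⁻¹, a.e⟩⟩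
instance : One (Ex θ) := ⟨⟨1, false⟩⟩

theorem mul_def (a b : Ex θ) : a * b = ⟨a.k * cond a.e (θ.f b.k) b.k, xor a.e b.e⟩ := rfl

instance : Group (Ex θ) := Group.ofLeftAxioms
  (by rintro ⟨a, _ | _⟩ ⟨b, _ | _⟩ ⟨c, _ | _⟩ <;> simp [mul_def, θ.mul, θ.ff, mul_assoc])
  (fun a => ext' (one_mul _) (Bool.false_xor _)) (by
    rintro ⟨a, _ | _⟩
    · exact ext' (inv_mul_cancel a) rfl
    · refine ext' ((θ.mul _ _).symm.trans ?_) rfl
      rw [inv_mul_cancel]
      exact left_eq_mul.1 ((θ.mul 1 1).symm ▸ congrArg θ.f (one_mul 1).symm))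

/-- The components. -/
def eqv : Ex θ ≃ M × Bool := ⟨fun a => (a.k, a.e), fun p => ⟨p.1, p.2⟩, fun _ => rfl, fun _ => rfl⟩

instance [Finite M] : Finite (Ex θ) := Finite.of_equiv _ eqv.symm

/-- The inclusion. -/
def inl : M →* Ex θ := MonoidHom.mk' (fun a => ⟨a, false⟩) fun _ _ => rfl

/-- The universal property. -/
def lift (φ : M →* G) (t : G) (tt : t * t = 1) (h : ∀ m, t * φ m = φ (θ.f m) * t) : Ex θ →* G :=
  MonoidHom.mk' (fun a => φ a.k * cond a.e t 1) (by
    rintro ⟨a, _ | _⟩ ⟨b, _ | _⟩ <;> simp only [mul_def, cond_true, cond_false, map_mul, mul_one, Bool.xor_false, Bool.xor_true,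
      Bool.not_false, Bool.not_true, mul_assoc]
    · rw [h]
    · rw [← mul_assoc t, h, mul_assoc, tt, mul_one])

end Ex

/-- Subgroup given by a list. -/
def lsg (l : List M) (h : 1 ∈ l ∧ (∀ a ∈ l, a⁻¹ ∈ l) ∧ ∀ a ∈ l, ∀ b ∈ l, a * b ∈ l) : Subgroup M where
  carrier := {a | a ∈ l}
  one_mem' := h.1
  inv_mem' := h.2.1 _
  mul_mem' := fun ha hb => h.2.2 _ ha _ hb

instance [DecidableEq M] (l : List M) (h) (a : M) : Decidable (a ∈ lsg l h) := inferInstanceAs (Decidable (a ∈ l))
instance (priority := high + 1) (l : List M) (h) (p : M → Prop) [DecidablePred p] : Decidable (∀ a ∈ lsg l h, p a) :=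
  List.decidableBAll p l
instance (priority := high + 1) (l : List M) (h) (p : M → Prop) [DecidablePred p] : Decidable (∃ a ∈ lsg l h, p a) :=
  List.decidableBEx p l

theorem card_lsg [DecidableEq M] (l : List M) (h) (n : l.Nodup) : Nat.card (lsg l h) = l.length := by
  rw [← List.toFinset_card_of_nodup n, ← Nat.card_eq_finsetCard]
  exact Nat.card_congr (Equiv.subtypeEquivRight fun a => List.mem_toFinset.symm)

/-- Extension of a subgroup by a normalising involution. -/
def ext2 (B : Subgroup G) (u : G) (uu : u * u = 1) (h : ∀ b ∈ B, u * b * u ∈ B) : Subgroup G where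
  carrier := {g | g ∈ B ∨ u * g ∈ B}
  one_mem' := .inl (one_mem _)
  inv_mem' := fun {g} hg => hg.imp inv_mem fun c => by
    have := h _ (inv_mem c)
    rwa [mul_inv_rev, mul_assoc, inv_mul_cancel_right] at this
  mul_mem' := fun {a b} ha hb => by
    have e : ∀ x, u * (u * x) = x := fun x => by rw [← mul_assoc, uu, one_mul]
    rcases ha with ha | ha <;> rcases hb with hb | hb
    exacts [.inl (mul_mem ha hb), .inr (by simpa only [mul_assoc, e] using mul_mem (h a ha) hb),
      .inr (by simpa only [mul_assoc] using mul_mem ha hb), .inl (by simpa only [mul_assoc, e] using mul_mem (h _ ha) hb)]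

/-- Conjugation by a transposition. -/
def tauA : Iv A60 := ⟨KM.tau, KM.act_mul 3, by decide +kernel⟩

/-- Conjugation by a transposition. -/
def tauK : Iv KM := ⟨fun k => ⟨KM.tau k.n, k.s⟩, fun a b => KM.ext' ((KM.act_mul 3 _ _).trans (congrArg (_ * ·)
  ((by decide +kernel : ∀ s n, KM.tau (KM.act s n) = KM.act s (KM.tau n)) _ _))) rfl, fun a => KM.ext' (tauA.ff _) rfl⟩

/-- Table model of `S₃ × S₅`. -/
abbrev KS : Type := Ex tauK

namespace KS

/-- The element with a given index. -/
def el (i : ℕ) : KS := ⟨KM.el i, Nat.ble 360 i⟩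

theorem ex_el (a : KS) : ∃ i < 720, el i = a := by
  obtain ⟨k, _ | _⟩ := a <;> obtain ⟨i, h, rfl⟩ := KM.ex_el k
  exacts [⟨i, by omega, (by decide +kernel : ∀ i < 360, el i = ⟨KM.el i, false⟩) i h⟩,
    ⟨i + 360, by omega, (by decide +kernel : ∀ i < 360, el (i + 360) = ⟨KM.el i, true⟩) i h⟩]

instance (priority := high) (p : KS → Prop) [DecidablePred p] : Decidable (∀ a, p a) := decAll 720 el ex_el p
instance (priority := high) (p : KS → Prop) [DecidablePred p] : Decidable (∃ a, p a) := decEx 720 el ex_el p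

/-- The isomorphism with `S₃ × S₅`. -/
noncomputable def equiv : KS ≃* Perm (Fin 3) × Perm (Fin 5) :=
  MulEquiv.ofBijective (Ex.lift KM.emb (1, swap 3 4) (by decide +kernel) (by decide +kernel))
    ((Nat.bijective_iff_injective_and_card _).2 ⟨(injective_iff_map_eq_one _).2 (by decide +kernel), by
      rw [Nat.card_congr Ex.eqv, Nat.card_prod, KM.card, Nat.card_prod, Nat.card_perm, Nat.card_perm]
      simp [Nat.factorial]⟩)

/-- The Sylow `3`-subgroup. -/
abbrev D : Subgroup KS := lsg [el 0, el 15, el 24, el 60, el 75, el 84, el 120, el 135, el 144] (by decide +kernel)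

end KS

end Cfsg.Lib.S8L
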