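import Cfsg.Agent.Lib.S8L.Cs

/-!
# The group `(A₅ × A₅).2²` and its embedding
-/

set_option maxRecDepth 100000
set_option synthInstance.maxSize 100000
set_option synthInstance.maxHeartbeats 200000
set_option Elab.async false

namespace Cfsg.Lib.S8L

open Subgroup Cfsg.Lib.X32 Cfsg.Lib.Transfer Cfsg.Lib.A8L Cfsg.Lib.JR

universe u

local notation "⟬" n "⟭" => KS.el n
local notation "⦅" n "⦆" => KM.ea n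

/-- The diagonal automorphism. -/
def tau2 : Iv (A60 × A60) := ⟨fun x => (KM.tau x.1, KM.tau x.2), fun _ _ => Prod.ext (tauA.mul _ _) (tauA.mul _ _),
  fun _ => Prod.ext (tauA.ff _) (tauA.ff _)⟩

/-- The swap. -/
def swp : Iv (Ex tau2) := ⟨fun x => ⟨(x.k.2, x.k.1), x.e⟩, by rintro ⟨a, _ | _⟩ b <;> rfl, fun _ => rfl⟩

/-- The model. -/
abbrev WM : Type := Ex swp

/-- The inclusion of `A₅`. -/
def jA : A60 →* KS := MonoidHom.mk' (fun n => ⟨⟨n, 0⟩, false⟩) fun a b =>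
  Ex.ext' (KM.ext' (congrArg (a * ·) (show b = KM.act 0 b from rfl)) (show 0 = KM.sm 0 0 by decide +kernel)) rfl

namespace WM

/-- Elements of the model. -/
def mk (p q : A60) (e f : Bool) : WM := ⟨⟨(p, q), e⟩, f⟩

/-- Elements of the model. -/
def el (p q e f : ℕ) : WM := mk ⦅p⦆ ⦅q⦆ (Nat.beq e 1) (Nat.beq f 1)

/-- A four-group. -/
abbrev F : Subgroup A60 := lsg [⦅0⦆, ⦅12⦆, ⦅47⦆, ⦅59⦆] (by decide +kernel)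

/-- A subgroup of order three. -/
abbrev Z : Subgroup A60 := lsg [⦅0⦆, ⦅15⦆, ⦅24⦆] (by decide +kernel)

/-- The Sylow `2`-subgroup. -/
def T : Subgroup WM where
  carrier := {x | x.k.k.1 ∈ F ∧ x.k.k.2 ∈ F}
  one_mem' := ⟨one_mem _, one_mem _⟩
  mul_mem' := by
    have t : ∀ a ∈ F, KM.tau a ∈ F := by decide +kernel
    rintro ⟨⟨a, _ | _⟩, _ | _⟩ b ⟨h1, h2⟩ ⟨h3, h4⟩
    exacts [⟨mul_mem h1 h3, mul_mem h2 h4⟩, ⟨mul_mem h1 h4, mul_mem h2 h3⟩, ⟨mul_mem h1 (t _ h3), mul_mem h2 (t _ h4)⟩,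
      ⟨mul_mem h1 (t _ h4), mul_mem h2 (t _ h3)⟩]
  inv_mem' := by
    have t : ∀ a ∈ F, KM.tau a⁻¹ ∈ F := by decide +kernel
    rintro ⟨⟨a, _ | _⟩, _ | _⟩ ⟨h1, h2⟩
    exacts [⟨inv_mem h1, inv_mem h2⟩, ⟨inv_mem h2, inv_mem h1⟩, ⟨t _ h1, t _ h2⟩, ⟨t _ h2, t _ h1⟩]

/-- The socle. -/
def N : Subgroup WM where
  carrier := {x | x.k.e = false ∧ x.e = false}
  one_mem' := ⟨rfl, rfl⟩
  mul_mem' := by rintro ⟨⟨a, _⟩, _⟩ ⟨⟨b, _⟩, _⟩ ⟨rfl, rfl⟩ ⟨rfl, rfl⟩; exact ⟨rfl, rfl⟩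
  inv_mem' := by rintro ⟨⟨a, _⟩, _⟩ ⟨rfl, rfl⟩; exact ⟨rfl, rfl⟩

instance : N.Normal := ⟨by rintro ⟨⟨a, _⟩, _⟩ ⟨rfl, rfl⟩ ⟨⟨b, _ | _⟩, _ | _⟩ <;> exact ⟨rfl, rfl⟩⟩

instance (x : WM) : Decidable (x ∈ T) := inferInstanceAs (Decidable (_ ∧ _))
instance (x : WM) : Decidable (x ∈ N) := inferInstanceAs (Decidable (_ ∧ _))
instance (x : WM) : Decidable (x ∈ T ⊓ N) := inferInstanceAs (Decidable (x ∈ T ∧ x ∈ N))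

instance (priority := high + 1) (P : WM → Prop) [DecidablePred P] : Decidable (∀ x ∈ T, P x) :=
  decidable_of_iff (∀ p ∈ F, ∀ q ∈ F, ∀ e f, P (mk p q e f)) ⟨fun h _ hx => h _ hx.1 _ hx.2 _ _, fun h _ h1 _ h2 _ _ => h _ ⟨h1, h2⟩⟩
instance (priority := high + 1) (P : WM → Prop) [DecidablePred P] : Decidable (∃ x ∈ T, P x) :=
  decidable_of_iff (∃ p ∈ F, ∃ q ∈ F, ∃ e f, P (mk p q e f))
    ⟨fun ⟨_, h1, _, h2, _, _, h⟩ => ⟨_, ⟨h1, h2⟩, h⟩, fun ⟨_, h1, h2⟩ => ⟨_, h1.1, _, h1.2, _, _, h2⟩⟩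
instance (priority := high + 2) (P : WM → Prop) [DecidablePred P] : Decidable (∀ x ∈ T ⊓ N, P x) :=
  decidable_of_iff (∀ p ∈ F, ∀ q ∈ F, P (mk p q false false))
    ⟨by rintro h ⟨⟨a, _⟩, _⟩ ⟨hx, rfl, rfl⟩; exact h _ hx.1 _ hx.2, fun h _ h1 _ h2 => h _ ⟨⟨h1, h2⟩, rfl, rfl⟩⟩

theorem inv {x : WM} (hx : x ∈ N) (e : x * x = 1) :
    x = 1 ∨ (∃ s, s * x * s⁻¹ = el 0 12 0 0) ∨ ∃ s ∈ N, s * x * s⁻¹ = el 12 12 0 0 := by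
  obtain ⟨⟨⟨p, q⟩, _⟩, _⟩ := x
  obtain ⟨rfl, rfl⟩ := hx
  have c : ∀ n : A60, n * n = 1 → n = 1 ∨ ∃ s, s * n * s⁻¹ = ⦅12⦆ := by decide +kernel
  rcases c p (congrArg (·.k.k.1) e) with rfl | ⟨s, hs⟩ <;> rcases c q (congrArg (·.k.k.2) e) with rfl | ⟨t, ht⟩
  · exact .inl rfl
  · exact .inr (.inl ⟨mk 1 t false false, Ex.ext' (Ex.ext' (Prod.ext (by decide +kernel : (1 : A60) * 1 * 1⁻¹ = ⦅0⦆) ht) rfl) rfl⟩)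
  · exact .inr (.inl ⟨mk 1 s false true, Ex.ext' (Ex.ext' (Prod.ext (by decide +kernel : (1 : A60) * 1 * 1⁻¹ = ⦅0⦆) hs) rfl) rfl⟩)
  · exact .inr (.inr ⟨mk s t false false, ⟨rfl, rfl⟩, Ex.ext' (Ex.ext' (Prod.ext hs ht) rfl) rfl⟩)

theorem cm {x : WM} (hx : x ∈ N) (e : x * el 12 12 0 0 = el 12 12 0 0 * x) : x ∈ T := by
  obtain ⟨⟨⟨p, q⟩, _⟩, _⟩ := x
  obtain ⟨rfl, rfl⟩ := hx
  have c : ∀ n : A60, n * ⦅12⦆ = ⦅12⦆ * n → n ∈ F := by decide +kernel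
  exact ⟨c p (congrArg (·.k.k.1) e), c q (congrArg (·.k.k.2) e)⟩

end WM

local notation "⟪" p "," q "," e "," f "⟫" => WM.el p q e f

variable {G : Type u} [Group G] {κ : KS →* G} {u : G}

theorem genA {g : G} (h1 : Cj κ g ⟬15⟭ ⟬15⟭) (h2 : Cj κ g ⟬12⟭ ⟬12⟭) (h3 : Cj κ g ⟬47⟭ ⟬47⟭) (n : A60) : Cj κ g (jA n) (jA n) := by
  obtain ⟨i, -, j, -, k, -, l, -, m, -, e⟩ := (by decide +kernel : ∀ n, ∃ i < 3, ∃ j < 2, ∃ k < 5, ∃ l < 3, ∃ m < 2,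
    ⟬15⟭ ^ i * ⟬12⟭ ^ j * (⟬15⟭ * ⟬47⟭) ^ k * ⟬15⟭ ^ l * ⟬12⟭ ^ m = jA n) n
  exact (((((Cj.pow' h1 i).mul (Cj.pow' h2 j)).mul (Cj.pow' (h1.mul h3) k)).mul (Cj.pow' h1 l)).mul (Cj.pow' h2 m)).cast e e

namespace Cs

variable (h : Cs κ u) (ha : Cj κ u ⟬540⟭ ⟬12⟭)
  (hB : ∀ g, Cj κ g ⟬360⟭ ⟬360⟭ → ∃ k, k * ⟬360⟭ = ⟬360⟭ * k ∧ (g = κ k ∨ g = u * κ k))
include h ha hB

theorem ww : Cj κ (u * (κ ⟬47⟭ * u)) ⟬47⟭ ⟬47⟭ := by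
  have a1 : Cj κ (u * (κ ⟬47⟭ * u)) ⟬12⟭ ⟬12⟭ := ((h.sy ha).comp (cjk κ (by decide +kernel))).comp ha
  have a2 : Cj κ (u * (κ ⟬47⟭ * u)) ⟬540⟭ ⟬540⟭ := (ha.comp (cjk κ (by decide +kernel))).comp (h.sy ha)
  have a3 := (h.ui.comp (cjk κ (k := ⟬47⟭) (q := ⟬12⟭ * ⟬360⟭) (by decide +kernel))).comp ((h.sy ha).mul h.ui)
  have a4 : Cj κ (u * (κ ⟬47⟭ * u)) ⟬15⟭ ⟬15⟭ := ((h.sy h.uz).comp (cjk κ (by decide +kernel))).comp h.uz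
  have w2 : κ ⟬47⟭ * κ ⟬47⟭ = 1 := by rw [← map_mul, h.one]; decide +kernel
  have b1 := a1.comp (cjk κ (k := ⟬47⟭) (q := ⟬12⟭) (by decide +kernel))
  have b2 := a2.comp (cjk κ (k := ⟬47⟭) (q := ⟬540⟭) (by decide +kernel))
  have b3 := a3.comp (cjk κ (k := ⟬47⟭) (q := ⟬540⟭ * ⟬12⟭ * ⟬360⟭) (by decide +kernel))
  have e : ∀ k, κ ⟬47⟭ * (u * (κ ⟬47⟭ * u)) * (κ ⟬47⟭ * (u * (κ ⟬47⟭ * u))) = κ k →
      Cj κ (u * (κ ⟬47⟭ * u)) ⟬47⟭ (⟬47⟭ * k) := fun k e => by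
    rw [Cj, map_mul, ← e, mul_inv_rev, mul_inv_rev, h.iv, inv_eq_of_mul_eq_one_right w2, ← mul_assoc (κ _), ← mul_assoc (κ _), w2]
    group
  obtain ⟨k, k1, c | c⟩ := hB _ (b3.comp (((b2.mul b1).mul b3).cast rfl (by decide +kernel)))
  · have c1 : Cj κ (κ ⟬47⟭ * (u * (κ ⟬47⟭ * u))) k k := .of_comm (by rw [← c, ← mul_assoc])
    have c2 : Cj κ u k k⁻¹ := by
      rw [Cj, map_inv, ← c, h.iv]
      simp only [mul_inv_rev, h.iv, inv_eq_of_mul_eq_one_right w2, mul_assoc, h.uu, mul_one]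
    rcases (by decide +kernel : ∀ k, k * ⟬360⟭ = ⟬360⟭ * k → k * ⟬540⟭ * k⁻¹ = ⟬540⟭ → k * ⟬12⟭ * k⁻¹ = ⟬12⟭ → k = 1 ∨ k = ⟬540⟭ ∨
      k = ⟬12⟭ ∨ k = ⟬552⟭ ∨ ∃ i < 2, ∃ j < 2, k = ⟬540⟭ ^ i * ⟬12⟭ ^ j * ⟬360⟭ ∧ k ≠ ⟬540⟭ ^ i * ⟬12⟭ ^ j * (⟬540⟭ * ⟬12⟭ * ⟬360⟭))
      k k1 (h.eq (c ▸ b2.comp b2)) (h.eq (c ▸ b1.comp b1)) with rfl | rfl | rfl | rfl | ⟨i, -, j, -, rfl, d⟩
    · exact (e _ c).cast rfl (mul_one _)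
    · exact absurd (c2.uniq h.inj ha) (by decide +kernel)
    · exact absurd (c2.uniq h.inj (h.sy ha)) (by decide +kernel)
    · exact absurd ((Cj.pow' (a4.mul (e _ c)) 5).uniq h.inj (Cj.one.cast (by decide +kernel) rfl)) (by decide +kernel)
    · exact absurd (c1.uniq h.inj (((Cj.pow' b2 i).mul (Cj.pow' b1 j)).mul b3)) d
  · exact absurd (h.eq (((c ▸ b2.comp b2 :).comp ha).cast' (by rw [← mul_assoc, h.uu, one_mul])))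
      ((by decide +kernel : ∀ k, k * ⟬540⟭ * k⁻¹ ≠ ⟬12⟭) k)

theorem exists_phi : ∃ Φ : WM →* G, Function.Injective Φ ∧ Φ ⟪0,0,0,1⟫ = u ∧ Φ ⟪0,0,1,0⟫ = κ ⟬360⟭ ∧ Φ ⟪15,0,0,0⟫ = κ ⟬60⟭ ∧
    Φ ⟪0,12,0,0⟫ = κ ⟬12⟭ ∧ (∀ g, Cj Φ g ⟪0,0,1,0⟫ ⟪0,0,1,0⟫ → ∃ t ∈ WM.T, ∃ p ∈ WM.Z, ∃ q ∈ WM.Z, g = Φ (t * .mk p q false false)) ∧
      ∀ g, Cj Φ g ⟪15,0,0,0⟫ ⟪15,0,0,0⟫ → ∃ p ∈ WM.Z, ∃ q e, g = Φ (.mk p q e false) := by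
  have cm : ∀ p q, Commute (u * κ (jA p) * u⁻¹) (κ (jA q)) := fun p q => by
    have t : ∀ {k l}, Cj κ u k l → jA q * l = l * jA q → Cj κ (u * (κ (jA q) * u)) k k := fun c d =>
      (c.comp (cjk κ (mul_inv_eq_iff_eq_mul.2 d))).comp (h.sy c)
    have := genA (t (h.sy h.uz) ((by decide +kernel : ∀ q, jA q * ⟬60⟭ = ⟬60⟭ * jA q) q))
      (t (h.sy ha) ((by decide +kernel : ∀ q, jA q * ⟬540⟭ = ⟬540⟭ * jA q) q)) (.of_comm (by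
        have := (genA (((h.sy h.uz).comp (cjk κ (by decide +kernel))).comp h.uz)
          (((h.sy ha).comp (cjk κ (by decide +kernel))).comp ha) (h.ww ha hB) q).comm
        rw [← mul_right_inj u, ← mul_left_inj u]
        simpa only [← mul_assoc, h.uu, one_mul, mul_assoc _ u u, mul_one] using this.symm)) p
    have := (Commute.conj this.comm u).symm
    rwa [← mul_assoc, ← mul_assoc, h.uu, one_mul, mul_inv_cancel_right] at this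
  let Ψ := MonoidHom.noncommCoprod ((MulAut.conj u).toMonoidHom.comp (κ.comp jA)) (κ.comp jA) cm
  have ti : ∀ n, κ ⟬360⟭ * κ (jA n) = κ (jA (KM.tau n)) * κ ⟬360⟭ := fun n => by
    rw [← map_mul, ← map_mul, (by decide +kernel : ∀ n, ⟬360⟭ * jA n = jA (KM.tau n) * ⟬360⟭) n]
  let Φ1 : Ex tau2 →* G := Ex.lift Ψ (κ ⟬360⟭) (by rw [← map_mul, h.one]; decide +kernel) fun x => by
    show _ * (u * κ (jA x.1) * u⁻¹ * κ (jA x.2)) = u * κ (jA (KM.tau x.1)) * u⁻¹ * κ (jA (KM.tau x.2)) * _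
    rw [mul_assoc _ _ (κ ⟬360⟭), ← ti, h.iv]
    simp only [← mul_assoc]
    rw [← h.ui.comm, mul_assoc u, ti, mul_assoc _ u (κ ⟬360⟭), h.ui.comm]
    simp only [mul_assoc]
  let Φ : WM →* G := Ex.lift Φ1 u h.uu fun x => by
    show _ * (u * κ (jA x.k.1) * u⁻¹ * κ (jA x.k.2) * cond x.e _ 1) = u * κ (jA x.k.2) * u⁻¹ * κ (jA x.k.1) * cond x.e _ 1 * _
    rw [mul_assoc _ _ u, show cond x.e (κ ⟬360⟭) 1 * u = u * cond x.e (κ ⟬360⟭) 1 by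
      cases x.e; exacts [by simp, h.ui.comm.symm], (cm x.k.2 _).eq, h.iv]
    simp only [mul_assoc, ← mul_assoc u u, h.uu, one_mul]
  have ev : ∀ p q e f, Φ (.mk p q e f) = u * κ (jA p) * u⁻¹ * κ (jA q) * cond e (κ ⟬360⟭) 1 * cond f u 1 := fun _ _ _ _ => rfl
  have e1 : ∀ p, Φ (.mk p 1 false false) = u * κ (jA p) * u⁻¹ := fun p => by simp [ev]
  have e2 : ∀ q, Φ (.mk 1 q false false) = κ (jA q) := fun q => by simp [ev]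
  have e3 : Φ ⟪0,0,1,0⟫ = κ ⟬360⟭ := (ev 1 1 true false).trans (by simp)
  have e4 : Φ ⟪0,0,0,1⟫ = u := (ev 1 1 false true).trans (by simp)
  have e5 : Φ ⟪15,0,0,0⟫ = κ ⟬60⟭ := (e1 _).trans (h.sy h.uz)
  have e6 : Φ ⟪12,0,0,0⟫ = κ ⟬540⟭ := (e1 _).trans (h.sy ha)
  have e7 : Φ ⟪0,12,0,0⟫ = κ ⟬12⟭ := e2 _
  have e8 : Φ ⟪0,15,0,0⟫ = κ ⟬15⟭ := e2 _
  refine ⟨Φ, (injective_iff_map_eq_one Φ).2 ?_, e4, e3, e5, e7, fun g c => ?_, fun g c => ?_⟩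
  · rintro ⟨⟨⟨p, q⟩, e⟩, f⟩ c
    have c : u * κ (jA p) * u⁻¹ * κ (jA q * cond e ⟬360⟭ 1) * cond f u 1 = 1 := by
      refine Eq.trans ?_ c
      rw [map_mul, ← mul_assoc _ (κ _)]; cases e; exacts [by rw [cond_false, map_one]; rfl, rfl]
    cases f
    · rw [cond_false, mul_one, mul_eq_one_iff_inv_eq] at c
      obtain ⟨rfl, rfl⟩ := (by decide +kernel : ∀ q : A60, ∀ e, (∀ n ∈ [15, 12, 47], jA q * cond e ⟬360⟭ 1 * jA ⦅n⦆ *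
        (jA q * cond e ⟬360⟭ 1)⁻¹ = jA ⦅n⦆) → q = 1 ∧ e = false) q e fun n _ => h.eq (.of_comm (c ▸ (cm _ _).inv_left.eq))
      rw [map_one, cond_false, mul_one, map_one, inv_eq_one, conj_eq_one_iff, h.one] at c
      rw [(by decide +kernel : ∀ p, jA p = 1 → p = 1) p c]; rfl
    · rw [cond_true, mul_eq_one_iff_eq_inv] at c
      obtain ⟨n, c1, c2⟩ := (by decide +kernel : ∀ q : A60, ∀ e, ∃ n, jA q * cond e ⟬360⟭ 1 * ⟬15⟭ *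
        (jA q * cond e ⟬360⟭ 1)⁻¹ = jA n ∧ jA n ≠ ⟬60⟭) q e
      exact absurd ((((cjk κ c1).comp (.of_comm (cm p n).eq)).cast' (c.trans h.iv)).uniq h.inj (h.sy h.uz)) c2
  · rw [Cj, e3] at c
    obtain ⟨k, k1, c⟩ := hB g c
    obtain ⟨a, -, b, -, d, -, i, -, j, -, rfl, t, p, p1, q, q1, t'⟩ := (by decide +kernel : ∀ k, k * ⟬360⟭ = ⟬360⟭ * k → ∃ a < 2, ∃ b < 2,
      ∃ c < 2, ∃ i < 3, ∃ j < 3, k = ⟬540⟭ ^ a * ⟬12⟭ ^ b * ⟬360⟭ ^ c * (⟬60⟭ ^ i * ⟬15⟭ ^ j) ∧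
        ⟪12,0,0,0⟫ ^ a * ⟪0,12,0,0⟫ ^ b * ⟪0,0,1,0⟫ ^ c ∈ WM.T ∧ ∃ p ∈ WM.Z, ∃ q ∈ WM.Z,
          .mk p q false false = ⟪15,0,0,0⟫ ^ i * ⟪0,15,0,0⟫ ^ j) k k1
    rcases c with rfl | rfl
    · exact ⟨_, t, p, p1, q, q1, by simp only [t', map_mul, map_pow, e3, e5, e6, e7, e8]⟩
    · exact ⟨_, mul_mem (show ⟪0,0,0,1⟫ ∈ _ by decide +kernel) t, p, p1, q, q1, by
        simp only [t', map_mul, map_pow, e3, e4, e5, e6, e7, e8, mul_assoc]⟩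
  · rw [Cj, e5] at c
    obtain ⟨k, rfl⟩ := h.cen c
    obtain ⟨i, -, j, -, e1, p, p1, e, e'⟩ := (by decide +kernel : ∀ k, k * ⟬60⟭ * k⁻¹ = ⟬60⟭ → ∃ i < 3, ∃ j < 2,
      k = ⟬60⟭ ^ i * jA k.k.n * ⟬360⟭ ^ j ∧ ∃ p ∈ WM.Z, ∃ e,
        .mk p k.k.n e false = ⟪15,0,0,0⟫ ^ i * .mk 1 k.k.n false false * ⟪0,0,1,0⟫ ^ j) k (h.eq c)
    exact ⟨p, p1, _, e, by rw [e', e1]; simp only [map_mul, map_pow, e2, e3, e5]; rw [← e1]⟩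

end Cs

end Cfsg.Lib.S8L
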